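import Cfsg.Agent.Lib.G2Spectrum.Regular

/-!
# The orders of the elements of `G₂(q)`

`orderOf_dvd_cases`: every order divides `q² - 1`, `q² ± q + 1`, `p (q ± 1)`, or `p²` for `p = 3, 5`, or 8 or 12 for
`p = 2`.
-/

set_option autoImplicit false

namespace Cfsg.Agent.G2Spectrum

open Cfsg.Lie Cfsg.Agent.Chev Cfsg.Agent.Chev.BNSetup Cfsg.Agent.G2OddInvol Cfsg.Agent.LangSteinberg
open scoped MatrixGroups

variable {F : Type*} [Field F] [Fintype F] (p : ℕ) [Fact p.Prime] [CharP F p]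
include p

omit p [Fintype F] [Fact p.Prime] [CharP F p] in
theorem pow_of_conj {a u : GL chevG2.Idx F} {m : ℕ} (h : (a * u * a⁻¹) ^ m = 1) : u ^ m = 1 := by
  rwa [conj_pow, conj_eq_one_iff] at h

/-- The exponent of a `p`-element commuting with a nontrivial element of order prime to `p`. -/
theorem pow_of_radical {u g : GL chevG2.Idx F} (hu : u ∈ chevG2.group F) {j : ℕ} (huj : u ^ p ^ j = 1)
    (hg : g ∈ chevG2.group F) (hc : g * u = u * g) (hp : ¬ p ∣ orderOf g) (hg1 : g ≠ 1) {i : ℕ}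
    (hi : 4 ≤ p ^ i) : u ^ p ^ i = 1 := by
  obtain ⟨a, -, h | h⟩ := mem_radical_of_commute p hu huj hg hc hp hg1
  · exact pow_of_conj (pow_RA p hi h)
  · exact pow_of_conj (pow_RB p (by omega) h)

theorem pow_of_unipotent {u : GL chevG2.Idx F} (hu : u ∈ chevG2.group F) {j : ℕ} (huj : u ^ p ^ j = 1) {i : ℕ}
    (hi : 6 ≤ p ^ i) : u ^ p ^ i = 1 := by
  obtain ⟨P, hP⟩ := ChevSylow.exists_sylow p hgood hf (F := F)
  obtain ⟨⟨a, ha⟩, hau⟩ := exists_conj_mem_of_index p (P : Subgroup (chevG2.group F)) P.not_dvd_index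
    (x := ⟨u, hu⟩) (j := j) (Subtype.ext huj)
  rw [hP, Subgroup.mem_subgroupOf] at hau
  exact pow_of_conj (pow_U p hi hau)

/-- The `p`-elements commuting with an involution, `p` odd. -/
theorem pow_of_involution {u g : GL chevG2.Idx F} (hu : u ∈ chevG2.group F) {j : ℕ} (huj : u ^ p ^ j = 1)
    (hg : g ∈ chevG2.group F) (hc : g * u = u * g) (hg2 : orderOf g = 2) (h2 : (2 : F) ≠ 0) : u ^ p = 1 := by
  let k := AlgebraicClosure F
  let ι : F →+* k := algebraMap F k
  have : CharP k p := charP_of_injective_ringHom ι.injective p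
  have hsq : g * g = 1 := by rw [← pow_two, ← hg2, pow_orderOf_eq_one]
  obtain ⟨a, ha, e⟩ := cj_base h2 hg hsq (fun e => by rw [e, orderOf_one] at hg2; omega)
  have h2k : (2 : k) ≠ 0 := by rw [← map_ofNat ι 2]; exact (map_ne_zero ι).2 h2
  set y := entryMap chevG2 ι (a * u * a⁻¹) with hy
  have hcy : y * base = base * y := by
    rw [← entryMap_base ι, hy, ← map_mul, ← map_mul, ← e, conj_mul, conj_mul, hc]
  obtain ⟨A, B, h, hh, e'⟩ := exists_pair_of_commute h2k
    (entryMap_mem_group hgood ι (mul_mem (mul_mem ha hu) (inv_mem ha))) hcy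
  have hyj : y ^ p ^ j = 1 := by rw [hy, ← map_pow, conj_pow, huj, mul_one, mul_inv_cancel, map_one]
  obtain ⟨c, -, h', hh', b, b', ec, hpow, -, -⟩ := exists_pair A B hh (n := p ^ j) (by rw [← e']; exact hyj)
  obtain rfl := eq_one_of_pow_char p hh' hpow
  have k8 : Commute (xg chevG2 k 8 b) (xg chevG2 k 10 b') := by
    rw [← (phi_spec (F := k) h8).1 b, ← (phi_spec (F := k) h10).1 b']
    exact L_commute _ _
  have h1 : (c * y * c⁻¹) ^ p = 1 := by
    rw [hy, e', ec, one_mul, k8.mul_pow, xg_pow h8, xg_pow h10, CharP.cast_eq_zero, zero_mul, zero_mul,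
      hgood.xg_zero, hgood.xg_zero, one_mul]
  rw [conj_pow, conj_eq_one_iff, hy, ← map_pow, conj_pow, ← map_one (entryMap chevG2 ι),
    (entryMap_injective ι).eq_iff, conj_eq_one_iff] at h1
  exact h1

/-- Semisimple orders at least 4 and the exponent of the commuting `p`-elements. -/
theorem orders_large {g : GL chevG2.Idx F} (hg : g ∈ chevG2.group F) {n : ℕ} (hn : orderOf g = n)
    (hnp : ¬ p ∣ n) (h4 : 4 ≤ n) {u : GL chevG2.Idx F} (hu : u ∈ chevG2.group F) {j : ℕ}
    (huj : u ^ p ^ j = 1) (hc : g * u = u * g) :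
    (((n : ℤ) ∣ (Fintype.card F : ℤ) ^ 2 - 1 ∨ (n : ℤ) ∣ (Fintype.card F : ℤ) ^ 2 + Fintype.card F + 1 ∨
        (n : ℤ) ∣ (Fintype.card F : ℤ) ^ 2 - Fintype.card F + 1) ∧ u = 1) ∨
      (((n : ℤ) ∣ (Fintype.card F : ℤ) - 1 ∨ (n : ℤ) ∣ (Fintype.card F : ℤ) + 1) ∧ u ^ p = 1) := by
  let k := AlgebraicClosure F
  let ι : F →+* k := algebraMap F k
  have : CharP k p := charP_of_injective_ringHom ι.injective p
  have hnk : (n : k) ≠ 0 := fun h => hnp ((CharP.cast_eq_zero_iff k p n).1 h)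
  obtain ⟨a, ha, ht⟩ := exists_torus p ι hg hn hnk (by omega)
  set t := a * entryMap chevG2 ι g * a⁻¹ with htdef
  have hord : orderOf t = n := by
    rw [htdef, show a * entryMap chevG2 ι g * a⁻¹ = MulAut.conj a (entryMap chevG2 ι g) from rfl,
      MulEquiv.orderOf_eq, orderOf_injective _ (entryMap_injective ι), hn]
  have ht2 : t ^ 2 ≠ 1 := fun e => by
    have := Nat.le_of_dvd (by norm_num) (hord ▸ orderOf_dvd_of_pow_eq_one e); omega
  have ht3 : t ^ 3 ≠ 1 := fun e => by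
    have := Nat.le_of_dvd (by norm_num) (hord ▸ orderOf_dvd_of_pow_eq_one e); omega
  set u' := a * entryMap chevG2 ι u * a⁻¹ with hu'
  have hu'G : u' ∈ chevG2.group k := mul_mem (mul_mem ha (entryMap_mem_group hgood ι hu)) (inv_mem ha)
  have hu'j : u' ^ p ^ j = 1 := by rw [hu', conj_pow, ← map_pow, huj, map_one, mul_one, mul_inv_cancel]
  have hcu : t * u' = u' * t := by rw [htdef, hu', conj_mul, conj_mul, ← map_mul, hc, map_mul]
  have hback : ∀ m, u' ^ m = 1 → u ^ m = 1 := fun m h => by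
    rwa [hu', conj_pow, conj_eq_one_iff, ← map_pow, ← map_one (entryMap chevG2 ι),
      (entryMap_injective ι).eq_iff] at h
  obtain ⟨⟨f, hf0⟩, hpp, hq⟩ := FiniteField.card F p
  have : ExpChar k p := .prime hpp
  let σ : k ≃+* k := iterateFrobeniusEquiv k p f
  have hσ : ∀ z, σ z = z ^ Fintype.card F := fun z => by rw [hq]; exact iterateFrobeniusEquiv_def ..
  have hσg : entryMap chevG2 (σ : k →+* k) (entryMap chevG2 ι g) = entryMap chevG2 ι g :=
    Units.ext (Matrix.ext fun i i' => by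
      show σ (ι ((g : Matrix chevG2.Idx chevG2.Idx F) i i')) = ι ((g : Matrix chevG2.Idx chevG2.Idx F) i i')
      rw [hσ, ← map_pow, FiniteField.pow_card])
  set t' := entryMap chevG2 (σ : k →+* k) t with ht'
  have ht'H : t' ∈ chevG2.diagonalSubgroup k := entryMap_mem_H _ ht
  have hchi : ∀ r, chi t' r = chi t r ^ Fintype.card F := fun r => hσ _
  set b := a * (entryMap chevG2 (σ : k →+* k) a)⁻¹ with hb
  have hbG : b ∈ chevG2.group k := mul_mem ha (inv_mem (entryMap_mem_group hgood _ ha))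
  have htb : t * b = b * t' := by
    rw [ht', htdef, map_mul, map_mul, map_inv, hσg, hb]; group
  obtain ⟨-, -, -, -, L, -, -, -, -, -, hL⟩ := conj_normal hgood hf negTri_chevG2 ht ht'H hbG htb
  obtain ⟨l, hl, el⟩ := exists_word_wl (F := k) L
  have hval : ∀ r < 12, val (cu ht (rt 7 (by norm_num))) (cu ht (rt 6 (by norm_num))) (wn l r) =
      val (cu ht (rt 7 (by norm_num))) (cu ht (rt 6 (by norm_num))) r ^ Fintype.card F := fun r hr => by
    refine Units.ext ?_
    have := hL ⟨r, lt12 hr⟩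
    rw [hchi, chi_eq_val ht, chi_eq_val ht, el, val_wl l (words_lt l hl)] at this
    rw [Units.val_pow_eq_pow_val]
    exact this
  by_cases hreg : ∀ r, chi t r ≠ 1
  · refine Or.inl ⟨?_, ?_⟩
    · obtain ⟨N, hN, hx, hy⟩ := twist_order _ _ hl hval
      have hd := orderOf_dvd_val ht hx hy
      rw [hord] at hd
      simp only [List.mem_cons, List.not_mem_nil, or_false] at hN
      rcases hN with rfl | rfl | rfl
      exacts [Or.inl hd, Or.inr (Or.inl hd), Or.inr (Or.inr hd)]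
    · have h1 : u' = 1 := eq_one_of_pow_char p (commute_regular_mem ht hreg hu'G hcu) hu'j
      simpa using hback 1 (by rw [h1, one_pow])
  refine Or.inr ⟨?_, hback p (pow_char_of_commute p ht ht2 ht3 hu'G hcu hu'j)⟩
  push Not at hreg
  obtain ⟨r, hr⟩ := hreg
  obtain ⟨N, hN, hx, hy⟩ := twist_order_killed _ _ hl hval (lt_of_lt_of_eq r.2 G2OddInvol.hn)
    (Units.ext (by rw [Units.val_one, ← chi_eq_val ht r, hr]))
  have hd := orderOf_dvd_val ht hx hy
  rw [hord] at hd
  simp only [List.mem_cons, List.not_mem_nil, or_false] at hN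
  rcases hN with rfl | rfl | rfl | rfl
  · exact Or.inl hd
  · exact Or.inr hd
  all_goals
    have := Int.le_of_dvd (by norm_num) hd
    omega

/-- The possible orders. -/
def OrderCase (p q N : ℕ) : Prop :=
  N ∣ q ^ 2 - 1 ∨ N ∣ q ^ 2 + q + 1 ∨ N ∣ q ^ 2 - q + 1 ∨ N ∣ p * (q - 1) ∨ N ∣ p * (q + 1) ∨
    ((p = 3 ∨ p = 5) ∧ N ∣ p ^ 2) ∨ (p = 2 ∧ (N ∣ 8 ∨ N ∣ 12))

theorem orderOf_dvd_cases {g : GL chevG2.Idx F} (hg : g ∈ chevG2.group F) :
    OrderCase p (Fintype.card F) (orderOf g) := by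
  have hpp : p.Prime := Fact.out
  obtain ⟨f, -, hq⟩ := FiniteField.card F p
  have hpq : p ∣ Fintype.card F := hq ▸ dvd_pow_self p f.pos.ne'
  set q := Fintype.card F with hqdef
  have hq1 : 2 ≤ q := Fintype.one_lt_card
  have hfin : IsOfFinOrder g := isOfFinOrder_of_finite g
  obtain ⟨j, n, hnp, hN⟩ : ∃ j n, ¬ p ∣ n ∧ orderOf g = p ^ j * n :=
    ⟨(orderOf g).factorization p, orderOf g / p ^ (orderOf g).factorization p,
      Nat.not_dvd_ordCompl hpp hfin.orderOf_pos.ne', (Nat.ordProj_mul_ordCompl_eq_self _ _).symm⟩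
  have hn0 : n ≠ 0 := fun h => hnp (h ▸ dvd_zero p)
  set s := g ^ p ^ j with hs
  set u := g ^ n with hu
  have hso : orderOf s = n := by
    rw [hs, orderOf_pow, hN, Nat.gcd_eq_right (dvd_mul_right _ _), Nat.mul_div_cancel_left _ (pow_pos hpp.pos j)]
  have huo : orderOf u = p ^ j := by
    rw [hu, orderOf_pow, hN, Nat.gcd_eq_right (dvd_mul_left _ _), Nat.mul_div_cancel _ (Nat.pos_of_ne_zero hn0)]
  have huj : u ^ p ^ j = 1 := huo ▸ pow_orderOf_eq_one u
  have hsG : s ∈ chevG2.group F := pow_mem hg _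
  have huG : u ∈ chevG2.group F := pow_mem hg _
  have hcsu : s * u = u * s := (Commute.pow_pow_self g _ _).eq
  have hdiv : ∀ {M c}, u ^ c = 1 → n * c ∣ M → orderOf g ∣ M := fun {M c} h h' => by
    rw [hN, mul_comm]
    exact (Nat.mul_dvd_mul_left n (huo ▸ orderOf_dvd_of_pow_eq_one h)).trans h'
  have hsub : ((q - 1 : ℕ) : ℤ) = (q : ℤ) - 1 := by omega
  rcases (by omega : n = 1 ∨ n = 2 ∨ n = 3 ∨ 4 ≤ n) with rfl | rfl | rfl | h4
  · -- unipotent
    rcases (by
        have := hpp.two_le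
        rcases eq_or_ne p 4 with e | e
        · exact absurd (e ▸ hpp) (by norm_num)
        rcases eq_or_ne p 6 with e' | e'
        · exact absurd (e' ▸ hpp) (by norm_num)
        omega : p = 2 ∨ p = 3 ∨ p = 5 ∨ 7 ≤ p) with h | h | h | h
    · refine Or.inr (Or.inr (Or.inr (Or.inr (Or.inr (Or.inr ⟨h, Or.inl ?_⟩)))))
      exact hdiv (pow_of_unipotent p huG huj (i := 3) (by rw [h]; norm_num)) (by rw [h]; norm_num)
    · refine Or.inr (Or.inr (Or.inr (Or.inr (Or.inr (Or.inl ⟨Or.inl h, ?_⟩)))))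
      exact hdiv (pow_of_unipotent p huG huj (i := 2) (by rw [h]; norm_num)) (by simp)
    · refine Or.inr (Or.inr (Or.inr (Or.inr (Or.inr (Or.inl ⟨Or.inr h, ?_⟩)))))
      exact hdiv (pow_of_unipotent p huG huj (i := 2) (by rw [h]; norm_num)) (by simp)
    · refine Or.inr (Or.inr (Or.inr (Or.inl ?_)))
      exact hdiv (pow_of_unipotent p huG huj (i := 1) (by rw [pow_one]; omega)) (by rw [pow_one, one_mul]; exact dvd_mul_right _ _)
  · -- involutions
    have hp2 : p ≠ 2 := fun e => hnp (e ▸ dvd_rfl)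
    have h2 : (2 : F) ≠ 0 := fun e => hp2 ((Nat.prime_dvd_prime_iff_eq hpp Nat.prime_two).1
      ((CharP.cast_eq_zero_iff F p 2).1 (by exact_mod_cast e)))
    have hodd : q % 2 = 1 := by
      rw [hq]; exact Nat.odd_iff.1 ((hpp.odd_of_ne_two hp2).pow)
    refine Or.inr (Or.inr (Or.inr (Or.inl (hdiv (pow_of_involution p huG huj hsG hcsu hso h2) ?_))))
    rw [mul_comm]
    exact Nat.mul_dvd_mul_left p (by omega)
  · -- order three
    have hs1 : s ≠ 1 := fun e => by rw [e, orderOf_one] at hso; omega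
    have hp3 : p ≠ 3 := fun e => hnp (e ▸ dvd_rfl)
    have hq3 : q % 3 ≠ 0 := fun h => hp3 ((Nat.prime_dvd_prime_iff_eq Nat.prime_three hpp).1
      (Nat.prime_three.dvd_of_dvd_pow (hq ▸ Nat.dvd_of_mod_eq_zero h))).symm
    rcases eq_or_ne p 2 with h | h
    · refine Or.inr (Or.inr (Or.inr (Or.inr (Or.inr (Or.inr ⟨h, Or.inr ?_⟩)))))
      exact hdiv (pow_of_radical p huG huj hsG hcsu (hso ▸ hnp) hs1 (i := 2) (by rw [h]; norm_num))
        (by rw [h]; norm_num)
    · have hp5 : 4 ≤ p := by have := hpp.two_le; omega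
      have hup := pow_of_radical p huG huj hsG hcsu (hso ▸ hnp) hs1 (i := 1) (by rw [pow_one]; omega)
      rw [pow_one] at hup
      rcases (by omega : q % 3 = 1 ∨ q % 3 = 2) with h' | h'
      · refine Or.inr (Or.inr (Or.inr (Or.inl (hdiv hup ?_))))
        rw [mul_comm]; exact Nat.mul_dvd_mul_left p (by omega)
      · refine Or.inr (Or.inr (Or.inr (Or.inr (Or.inl (hdiv hup ?_)))))
        rw [mul_comm]; exact Nat.mul_dvd_mul_left p (by omega)
  · -- the general case
    have hq2 : q ≤ q ^ 2 := by nlinarith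
    rcases orders_large p hsG hso hnp h4 huG huj hcsu with ⟨hd, hu1⟩ | ⟨hd, hup⟩
    · have e : orderOf g = n := by
        rw [hN, ← huo, hu1, orderOf_one, one_mul]
      rw [e]
      rcases hd with hd | hd | hd
      · refine Or.inl (Int.natCast_dvd_natCast.1 ?_)
        rw [Nat.cast_sub (by nlinarith)]; push_cast; exact hd
      · exact Or.inr (Or.inl (Int.natCast_dvd_natCast.1 (by push_cast; exact hd)))
      · refine Or.inr (Or.inr (Or.inl (Int.natCast_dvd_natCast.1 ?_)))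
        push_cast [Nat.cast_sub hq2]; exact hd
    · rcases hd with hd | hd
      · refine Or.inr (Or.inr (Or.inr (Or.inl (hdiv hup ?_))))
        rw [mul_comm]; exact Nat.mul_dvd_mul_left p (Int.natCast_dvd_natCast.1 (by rw [hsub]; exact hd))
      · refine Or.inr (Or.inr (Or.inr (Or.inr (Or.inl (hdiv hup ?_)))))
        rw [mul_comm]; exact Nat.mul_dvd_mul_left p (Int.natCast_dvd_natCast.1 (by push_cast; exact hd))

end Cfsg.Agent.G2Spectrum
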