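import Cfsg.Agent.Lib.G2Spectrum.Levi

/-!
# Centralizers of torus elements of `G₂` over an algebraically closed field

`commute_regular_mem`: regular elements have the torus as centralizer.
`commute_cases`: the centralizer of an element of order at least 4 lies in a conjugate of a rank one Levi subgroup.
-/

set_option autoImplicit false

namespace Cfsg.Agent.G2Spectrum

open Cfsg.Lie Cfsg.Agent.Chev Cfsg.Agent.Chev.BNSetup Cfsg.Agent.G2OddInvol Cfsg.Agent.LangSteinberg
open scoped MatrixGroups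

variable {F : Type*} [Field F]

theorem commute_regular_mem {t : GL chevG2.Idx F} (ht : t ∈ chevG2.diagonalSubgroup F)
    (hreg : ∀ r, chi t r ≠ 1) {y : GL chevG2.Idx F} (hy : y ∈ chevG2.group F) (hc : t * y = y * t) :
    y ∈ chevG2.diagonalSubgroup F := by
  obtain ⟨h, hh, L, rfl, hL⟩ := commute_regular hgood hf negTri_chevG2 ht hreg hy hc
  exact mul_mem hh (mem_H_of_regular ht hreg hL)

/-- The centralizer of a torus element killing a simple root. -/
theorem commute_simple {r r' : ℕ} {w : List ℕ} (hmem : (r, r', w) ∈ [(7, 6, [0]), (6, 4, [1])])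
    (hr : r < 12) {t : GL chevG2.Idx F} (ht : t ∈ chevG2.diagonalSubgroup F) (hk : chi t (rt r hr) = 1)
    (h2 : t ^ 2 ≠ 1) (h3 : t ^ 3 ≠ 1) {y : GL chevG2.Idx F} (hy : y ∈ chevG2.group F) (hc : t * y = y * t) :
    ∃ A : SL(2, F), ∃ h ∈ chevG2.diagonalSubgroup F, y = phi F hr A * h := by
  obtain ⟨hr', hdet, hkill, hnn, hwlt⟩ : r' < 12 ∧ rdet r r' = 1 ∧
      (∀ s < 12, 6 ≤ s → rdet r s = 0 → s = r) ∧ (T F).nw (w.map ki) = phi F hr (nSL 1) ∧ ∀ i ∈ w, i < 2 := by
    simp only [List.mem_cons, Prod.mk.injEq, List.not_mem_nil, or_false] at hmem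
    rcases hmem with ⟨rfl, rfl, rfl⟩ | ⟨rfl, rfl, rfl⟩
    · refine ⟨by norm_num, simple_partner.1, fun s hs h6 h => ?_, ?_, by simp⟩
      · rcases simple_killed s hs (7, 4) (by simp) h with e | e
        exacts [e, absurd e (by omega)]
      · rw [List.map_cons, List.map_nil, RootBN.Data.nw_cons, RootBN.Data.nw_nil, mul_one, nn_zero,
          (phi_spec hr).2.2.1]
    · refine ⟨by norm_num, simple_partner.2, fun s hs h6 h => ?_, ?_, by simp⟩
      · rcases simple_killed s hs (6, 5) (by simp) h with e | e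
        exacts [e, absurd e (by omega)]
      · rw [List.map_cons, List.map_nil, RootBN.Data.nw_cons, RootBN.Data.nw_nil, mul_one, nn_one,
          (phi_spec hr).2.2.1]
  set x := cu ht (rt 7 (by norm_num)) with hx
  set z := cu ht (rt 6 (by norm_num)) with hz
  have hkill' : val x z r = 1 := Units.ext (by
    rw [Units.val_one, ← hk, chi_eq_val ht]; rfl)
  set g := val x z r' with hg
  have hval : ∀ s, val x z s = g ^ rdet r s := val_eq x z hdet hkill'
  have hpow : ∀ m : ℕ, g ^ m = 1 → t ^ m = 1 := fun m hm => by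
    refine diagonal_ext hgood (pow_mem ht m) (one_mem _) fun s => ?_
    rw [chi_pow hgood ht, chi_one, chi_eq_val ht, ← hx, ← hz, hval, ← Units.val_pow_eq_pow_val,
      ← zpow_natCast, ← zpow_mul, mul_comm, zpow_mul, zpow_natCast, hm, one_zpow, Units.val_one]
  have hsmall : ∀ e : ℤ, g ^ e = 1 → e.natAbs ≤ 3 → e = 0 := fun e he hle => by
    by_contra h0
    have hN : g ^ e.natAbs = 1 := by
      rcases Int.natAbs_eq e with h | h <;> rw [h] at he
      · rwa [zpow_natCast] at he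
      · rwa [zpow_neg, inv_eq_one, zpow_natCast] at he
    rcases (by omega : e.natAbs = 1 ∨ e.natAbs = 2 ∨ e.natAbs = 3) with h | h | h <;> rw [h] at hN
    · exact h2 (hpow 2 (by rw [pow_one] at hN; rw [hN, one_pow]))
    · exact h2 (hpow 2 hN)
    · exact h3 (hpow 3 hN)
  obtain ⟨v, hv, h₀, hh₀, L, u, hu, rfl, hcv, hcu, hL⟩ := conj_normal hgood hf negTri_chevG2 ht ht hy hc
  have hfix : ∀ s : Fin chevG2.nroots, chevG2.nroots / 2 ≤ s.val → chi t s = 1 →
      ∀ a : F, xe hgood s.val a ∈ (phi F hr).range := by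
    intro s hs h1 a
    have hs12 : s.val < 12 := lt_of_lt_of_eq s.2 G2OddInvol.hn
    have hs6 : 6 ≤ s.val := by have := G2OddInvol.hn; omega
    have hg1 : g ^ rdet r s.val = 1 := by
      rw [← hval]; exact Units.ext (by rw [Units.val_one, ← h1, chi_eq_val ht])
    have e := hkill s.val hs12 hs6 (hsmall _ hg1 (rdet_small r hr _ hs12))
    exact ⟨upperSL a, by rw [(phi_spec hr).1, xe_eq, e]⟩
  obtain ⟨A₁, rfl⟩ := fixed_mem hgood hf ht hv hcv hfix
  obtain ⟨A₂, rfl⟩ := fixed_mem hgood hf ht hu hcu hfix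
  obtain ⟨l, hl, el⟩ := exists_word_wl (F := F) L
  have hLv : ∀ s, (hs : s < 12) → g ^ rdet r (wn l s) = g ^ rdet r s := fun s hs => by
    rw [← hval, ← hval]
    refine Units.ext ?_
    have := hL ⟨s, lt12 hs⟩
    rwa [chi_eq_val ht, chi_eq_val ht, el, val_wl l (words_lt l hl)] at this
  have h0 : rdet r (wn l r) = 0 := by
    refine hsmall _ ?_ (rdet_small r hr _ (wn_lt l hl r hr))
    rw [hLv r hr, ← hval, hkill']
  have h1 : rdet r (wn l r') = 1 := by
    rcases killed_cases l hl r hr r' hr' hdet with ⟨-, e | e⟩ | e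
    · exact e
    · exfalso
      have := hLv r' hr'
      rw [e, hdet, zpow_neg_one, zpow_one] at this
      refine h2 (hpow 2 ?_)
      rw [pow_two]
      nth_rw 1 [← this]
      exact inv_mul_cancel g
    · rw [h0] at e; simp at e
  have hN : ∃ h₁ ∈ chevG2.diagonalSubgroup F, ∃ N : SL(2, F), (data hgood F).nw L = h₁ * phi F hr N := by
    rcases simple_stab l hl (r, r', w) hmem h0 h1 with hid | hw'
    · refine ⟨(data hgood F).nw L, nw_mem_H fun s => Fin.ext ?_, 1, by rw [map_one, mul_one]⟩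
      rw [el, val_wl l (words_lt l hl)]
      exact hid _ (lt_of_lt_of_eq s.2 G2OddInvol.hn)
    · refine ⟨(data hgood F).nw L * ((T F).nw (w.map ki))⁻¹, ?_, nSL 1, by rw [← hnn, inv_mul_cancel_right]⟩
      refine RootBN.Data.mul_inv_mem_H (ax F) (RootBN.Data.nw_mem_N L) (RootBN.Data.nw_mem_N _)
        (RootBN.Data.acts_nw (ax F) _) ?_
      rw [el, wl_eq (words_lt l hl) hwlt hw']
      exact RootBN.Data.acts_nw (ax F) _
  obtain ⟨h₁, hh₁, N, eN⟩ := hN
  have hh : h₀ * h₁ ∈ chevG2.diagonalSubgroup F := mul_mem hh₀ hh₁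
  refine ⟨A₁ * theta (chi_ne_zero hgood hh (rt r hr)) (N * A₂), h₀ * h₁, hh, ?_⟩
  rw [eN, map_mul, ← conj_phi hh hr, map_mul]
  group

/-- The centralizer of a torus element of order at least 4. -/
theorem commute_cases {t : GL chevG2.Idx F} (ht : t ∈ chevG2.diagonalSubgroup F) (h2 : t ^ 2 ≠ 1)
    (h3 : t ^ 3 ≠ 1) {y : GL chevG2.Idx F} (hy : y ∈ chevG2.group F) (hc : t * y = y * t) :
    y ∈ chevG2.diagonalSubgroup F ∨ ∃ g ∈ chevG2.group F, ∃ r, ∃ hr : r < 12, 6 ≤ r ∧
      ∃ A : SL(2, F), ∃ h ∈ chevG2.diagonalSubgroup F, g * y * g⁻¹ = phi F hr A * h := by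
  by_cases hreg : ∀ r, chi t r ≠ 1
  · exact Or.inl (commute_regular_mem ht hreg hy hc)
  push Not at hreg
  obtain ⟨s, hs⟩ := hreg
  obtain ⟨l, hl, hls⟩ := to_simple s.val (lt_of_lt_of_eq s.2 G2OddInvol.hn)
  set n := (data hgood F).nw (l.map ki) with hn
  have hnG : n ∈ chevG2.group F := mem_group_of_mem_N (RootBN.Data.nw_mem_N _)
  have ht' : n * t * n⁻¹ ∈ chevG2.diagonalSubgroup F := RootBN.Data.nw_H (axioms hgood hf) _ ht
  have hs' : ((data hgood F).wl (l.map ki) s).val = wn l s.val := val_wl l (words_lt l hl) s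
  have hk : chi (n * t * n⁻¹) ((data hgood F).wl (l.map ki) s) = 1 := by
    rw [hn, chi_nw_conj hgood hf _ ht, hs]
  have hp : ∀ m, t ^ m ≠ 1 → (n * t * n⁻¹) ^ m ≠ 1 := fun m hm h => hm (by
    rw [conj_pow, mul_inv_eq_one] at h; simpa using h)
  have hc' : n * t * n⁻¹ * (n * y * n⁻¹) = n * y * n⁻¹ * (n * t * n⁻¹) := by
    simp only [mul_assoc, inv_mul_cancel_left]
    rw [← mul_assoc t, hc, mul_assoc]
  have hy' := mul_mem (mul_mem hnG hy) (inv_mem hnG)
  refine Or.inr ⟨n, hnG, ?_⟩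
  rcases hls with e | e
  · refine ⟨7, by norm_num, by norm_num, ?_⟩
    refine commute_simple (r' := 6) (w := [0]) (by simp) _ ht' ?_ (hp 2 h2) (hp 3 h3) hy' hc'
    rwa [show rt 7 _ = (data hgood F).wl (l.map ki) s from Fin.ext (e.symm.trans hs'.symm)]
  · refine ⟨6, by norm_num, by norm_num, ?_⟩
    refine commute_simple (r' := 4) (w := [1]) (by simp) _ ht' ?_ (hp 2 h2) (hp 3 h3) hy' hc'
    rwa [show rt 6 _ = (data hgood F).wl (l.map ki) s from Fin.ext (e.symm.trans hs'.symm)]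

/-- Torus elements of `p`-power order are trivial in characteristic `p`. -/
theorem eq_one_of_pow_char (p : ℕ) [Fact p.Prime] [CharP F p] {t : GL chevG2.Idx F}
    (ht : t ∈ chevG2.diagonalSubgroup F) {j : ℕ} (h : t ^ p ^ j = 1) : t = 1 := by
  obtain ⟨h7, h6⟩ := (pow_eq_one_iff' ht _).1 h
  have key : ∀ c : F, c ^ p ^ j = 1 → c = 1 := fun c hc => by
    refine sub_eq_zero.1 (eq_zero_of_pow_eq_zero (n := p ^ j) ?_)
    rw [sub_pow_char_pow, hc, one_pow, sub_self]
  exact eq_one_of_simple ht (key _ h7) (key _ h6)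

variable [IsAlgClosed F]

/-- An element of finite order prime to the characteristic commuting with a torus element of order at least 4
is conjugate into the torus. -/
theorem conj_torus_of_commute {t : GL chevG2.Idx F} (ht : t ∈ chevG2.diagonalSubgroup F) (h2 : t ^ 2 ≠ 1)
    (h3 : t ^ 3 ≠ 1) {y : GL chevG2.Idx F} (hy : y ∈ chevG2.group F) (hc : t * y = y * t) {m : ℕ}
    (hm : (m : F) ≠ 0) (hym : y ^ m = 1) :
    ∃ g ∈ chevG2.group F, g * y * g⁻¹ ∈ chevG2.diagonalSubgroup F := by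
  rcases commute_cases ht h2 h3 hy hc with h | ⟨g, hg, r, hr, h6, A, h, hh, e⟩
  · exact ⟨1, one_mem _, by simpa using h⟩
  obtain ⟨g', hg', h', hh', b, e', -, hb⟩ := exists_levi hr h6 A hh (n := m) (by rw [← e, conj_pow, hym]; group)
  refine ⟨g' * g, mul_mem hg' hg, ?_⟩
  rw [(mul_eq_zero.1 hb).resolve_left hm, hgood.xg_zero, mul_one] at e'
  rw [show g' * g * y * (g' * g)⁻¹ = g' * (g * y * g⁻¹) * g'⁻¹ by group, e, e']
  exact hh'

/-- A `p`-element commuting with a torus element of order at least 4 has order at most `p`. -/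
theorem pow_char_of_commute (p : ℕ) [Fact p.Prime] [CharP F p] {t : GL chevG2.Idx F}
    (ht : t ∈ chevG2.diagonalSubgroup F) (h2 : t ^ 2 ≠ 1) (h3 : t ^ 3 ≠ 1) {y : GL chevG2.Idx F}
    (hy : y ∈ chevG2.group F) (hc : t * y = y * t) {j : ℕ} (hyj : y ^ p ^ j = 1) : y ^ p = 1 := by
  rcases commute_cases ht h2 h3 hy hc with h | ⟨g, hg, r, hr, h6, A, h, hh, e⟩
  · rw [eq_one_of_pow_char p h hyj, one_pow]
  obtain ⟨g', -, h', hh', b, e', h'1, -⟩ := exists_levi hr h6 A hh (n := p ^ j) (by rw [← e, conj_pow, hyj]; group)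
  rw [eq_one_of_pow_char p hh' h'1, one_mul, ← e] at e'
  have : (g' * (g * y * g⁻¹) * g'⁻¹) ^ p = 1 := by
    rw [e', xg_pow hr, CharP.cast_eq_zero, zero_mul, hgood.xg_zero]
  rw [conj_pow, conj_pow, conj_eq_one_iff, conj_eq_one_iff] at this
  exact this

end Cfsg.Agent.G2Spectrum
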