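import Cfsg.Agent.Lib.LangSteinberg.TorusChar
import Cfsg.Agent.Lib.Chev.UnipotentInter

/-!
# Elements conjugating one torus element into another

`conj_normal`: if `t g = g t'` for torus elements, then `g = v n u` with `v`, `u` fixed and `t = n t' n⁻¹`.
-/

set_option autoImplicit false

namespace Cfsg.Agent.G2Spectrum

open Cfsg.Lie Cfsg.Agent.Chev Cfsg.Agent.Chev.BNSetup Cfsg.Agent.LangSteinberg

variable {D : ChevalleyDatum} {F : Type*} [Field F] (hG : Good D) {tabs simps : List ℕ}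
  (hf : Facts D tabs simps)
include hG hf

theorem fixed_mem {t : GL D.Idx F} (ht : t ∈ D.diagonalSubgroup F) {u : GL D.Idx F}
    (hu : u ∈ D.posUnipotent F) (hc : t * u * t⁻¹ = u) {K : Subgroup (GL D.Idx F)}
    (hK : ∀ r : Fin D.nroots, D.nroots / 2 ≤ r.val → chi t r = 1 → ∀ s : F, xe hG r.val s ∈ K) : u ∈ K := by
  have hkm : D.nroots / 2 + (D.nroots - D.nroots / 2) = D.nroots := by omega
  rw [← Uge_eq_U hG hf] at hu
  obtain ⟨a, -, rfl⟩ := exists_prodFrom hG hf hkm le_rfl u hu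
  rw [prodFrom_conj hG ht a _ _ hkm.le] at hc
  refine prodFrom_mem_of hG hkm.le fun r hr hr' hne => ?_
  have hr'' : r < D.nroots := hkm ▸ hr'
  have := prodFrom_inj hG hf hkm le_rfl hc r hr hr''
  rw [dif_pos hr''] at this
  exact hK ⟨r, hr''⟩ hr (mul_right_cancel₀ hne (this.trans (one_mul _).symm)) _

omit hf in
theorem diag_comm {x y : GL D.Idx F} (hx : x ∈ D.diagonalSubgroup F) (hy : y ∈ D.diagonalSubgroup F) :
    x * y = y * x :=
  diagonal_ext hG (mul_mem hx hy) (mul_mem hy hx) fun r => by rw [chi_mul hG hx hy, chi_mul hG hy hx, mul_comm]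

theorem conj_normal (hn : NegTri D) {t t' : GL D.Idx F} (ht : t ∈ D.diagonalSubgroup F)
    (ht' : t' ∈ D.diagonalSubgroup F) {g : GL D.Idx F} (hg : g ∈ D.group F) (hc : t * g = g * t') :
    ∃ v ∈ D.posUnipotent F, ∃ h ∈ D.diagonalSubgroup F, ∃ l, ∃ u ∈ D.posUnipotent F,
      g = v * (h * (data hG F).nw l) * u ∧ t * v * t⁻¹ = v ∧ t' * u * t'⁻¹ = u ∧
      ∀ r, chi t ((data hG F).wl l r) = chi t' r := by
  have ax := axioms (F := F) hG hf
  obtain ⟨hex, huniq⟩ := bruhat_normal_form (F := F) hG hf hn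
  obtain ⟨b, hb, n, hn', u, hu, rfl⟩ := hex g hg
  have hnN : n ∈ (data hG F).N := (data_N hG hf).ge hn'
  have htB : t ∈ D.borelSubgroup F := (le_sup_right : D.diagonalSubgroup F ≤ D.borelSubgroup F) ht
  set h' := t * (n * t'⁻¹ * n⁻¹) with hh'
  have hh'H : h' ∈ D.diagonalSubgroup F :=
    mul_mem ht (RootBN.Data.N_conj_H ax hnN (inv_mem ht'))
  have hu' : t' * u * t'⁻¹ ∈ Subgroup.closure (negSet F D n) := by
    refine (show Subgroup.closure (negSet F D n) ≤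
      (Subgroup.closure (negSet F D n)).comap (MulAut.conj t').toMonoidHom from ?_) hu
    rw [Subgroup.closure_le]
    rintro x ⟨r, s, hr, hle, hx⟩
    obtain rfl : x = xe hG r s := eq_xe hG hx
    refine Subgroup.subset_closure ⟨r, chi t' ⟨r, hr.1⟩ * s, hr, hle, ?_⟩
    show ((t' * xe hG r s * t'⁻¹ : GL D.Idx F) : Matrix D.Idx D.Idx F) = _
    rw [conj_xe hG ht' ⟨r, hr.1⟩, coe_xe]
  have e : b * n * u = (t * b * t⁻¹ * h') * n * (t' * u * t'⁻¹) := by
    calc b * n * u = t * (b * n * u) * t'⁻¹ := by rw [hc, mul_inv_cancel_right]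
      _ = _ := by rw [hh']; group
  have hb' : t * b * t⁻¹ * h' ∈ D.borelSubgroup F :=
    mul_mem (mul_mem (mul_mem htB hb) (inv_mem htB))
      ((le_sup_right : D.diagonalSubgroup F ≤ D.borelSubgroup F) hh'H)
  obtain ⟨hbe, hue⟩ := (huniq b _ n n u _ hb hb' hn' hn' hu hu' e).2 rfl
  have huU : u ∈ D.posUnipotent F := by
    refine (show Subgroup.closure (negSet F D n) ≤ D.posUnipotent F from ?_) hu
    rw [Subgroup.closure_le]
    rintro x ⟨r, s, hr, -, hx⟩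
    exact Subgroup.subset_closure ⟨r, s, hr, hx⟩
  obtain ⟨v, hv, h₀, hh₀, rfl⟩ := borel_decomp hG hf hb
  have htv : t * v * t⁻¹ ∈ D.posUnipotent F := by
    refine (show D.posUnipotent F ≤ (D.posUnipotent F).comap (MulAut.conj t).toMonoidHom from ?_) hv
    conv_lhs => rw [ChevalleyDatum.posUnipotent]
    rw [Subgroup.closure_le]
    rintro x ⟨r, s, hr, hx⟩
    obtain rfl : x = xe hG r s := eq_xe hG hx
    refine Subgroup.subset_closure ⟨r, chi t ⟨r, hr.1⟩ * s, hr, ?_⟩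
    show ((t * xe hG r s * t⁻¹ : GL D.Idx F) : Matrix D.Idx D.Idx F) = _
    rw [conj_xe hG ht ⟨r, hr.1⟩, coe_xe]
  have hbe' : v * h₀ = (t * v * t⁻¹) * (h₀ * h') := by
    rw [hbe]
    calc t * (v * h₀) * t⁻¹ * h' = t * v * t⁻¹ * (t * h₀ * t⁻¹) * h' := by group
      _ = _ := by rw [diag_comm hG ht hh₀, mul_inv_cancel_right]; group
  have hmem : (t * v * t⁻¹)⁻¹ * v ∈ D.posUnipotent F ⊓ D.diagonalSubgroup F := by
    refine Subgroup.mem_inf.2 ⟨mul_mem (inv_mem htv) hv, ?_⟩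
    rw [show (t * v * t⁻¹)⁻¹ * v = h₀ * h' * h₀⁻¹ by
      rw [eq_mul_inv_iff_mul_eq, mul_assoc, hbe', inv_mul_cancel_left]]
    exact mul_mem (mul_mem hh₀ hh'H) (inv_mem hh₀)
  rw [U_inf_H hf hG, Subgroup.mem_bot, inv_mul_eq_one] at hmem
  rw [hmem] at hbe'
  have hh'1 : h' = 1 := mul_eq_left.1 (mul_left_cancel hbe').symm
  obtain ⟨h₁, hh₁, l, rfl⟩ := RootBN.Data.exists_word ax hnN
  refine ⟨v, hv, h₀ * h₁, mul_mem hh₀ hh₁, l, u, huU, by group, hmem, hue.symm, fun r => ?_⟩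
  have hnt : h₁ * ((data hG F).nw l * t' * ((data hG F).nw l)⁻¹) * h₁⁻¹ = t := by
    rw [hh'] at hh'1
    calc _ = ((t * (h₁ * (data hG F).nw l * t'⁻¹ * (h₁ * (data hG F).nw l)⁻¹))⁻¹) * t := by group
      _ = t := by rw [hh'1, inv_one, one_mul]
  rw [diag_comm hG hh₁ (RootBN.Data.nw_H ax l ht'), mul_inv_cancel_right] at hnt
  conv_lhs => rw [← hnt]
  exact chi_nw_conj hG hf l ht' r

end Cfsg.Agent.G2Spectrum
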