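import Cfsg.Agent.Lib.G2Spectrum.Cent
import Cfsg.Agent.Lib.Chev.Order
import Cfsg.Agent.Lib.Chev.Poincare
import Cfsg.Agent.Lib.LangSteinberg.Fixed

/-!
# Elements of `G₂(q)` of order prime to `p` are diagonalizable, apart from order 3

`exists_torus`: over an algebraically closed field such an element is conjugate into the torus, unless its order is 3.
-/

set_option autoImplicit false

namespace Cfsg.Agent.G2Spectrum

open Cfsg.Lie Cfsg.Agent.Chev Cfsg.Agent.Chev.BNSetup Cfsg.Agent.G2OddInvol Cfsg.Agent.LangSteinberg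
open scoped MatrixGroups

theorem exists_conj_mem_of_index {G : Type*} [Group G] [Finite G] (r : ℕ) [hr : Fact r.Prime] (P : Subgroup G)
    (hP : ¬ r ∣ P.index) {x : G} {j : ℕ} (hx : x ^ r ^ j = 1) : ∃ g : G, g * x * g⁻¹ ∈ P := by
  let S₀ : Sylow r P := Inhabited.default
  obtain ⟨Q, hQ⟩ := (S₀.isPGroup'.map P.subtype).exists_le_sylow
  have hc : Nat.card (Q : Subgroup G) = Nat.card ((S₀ : Subgroup P).map P.subtype) := by
    rw [Subgroup.card_map_of_injective P.subtype_injective, Sylow.card_eq_multiplicity,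
      Sylow.card_eq_multiplicity, ← P.card_mul_index,
      Nat.factorization_mul Nat.card_pos.ne' Subgroup.index_ne_zero_of_finite, Finsupp.add_apply,
      Nat.factorization_eq_zero_of_not_dvd hP, add_zero]
  have hQP : (Q : Subgroup G) ≤ P := by
    rw [← Subgroup.eq_of_le_of_card_ge hQ hc.le]
    exact Subgroup.map_subtype_le _
  have hz : IsPGroup r (Subgroup.zpowers x) := fun ⟨y, i, hy⟩ => ⟨j, Subtype.ext (by
    show y ^ r ^ j = 1
    rw [← hy]
    show (x ^ i) ^ r ^ j = 1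
    rw [← zpow_natCast, ← zpow_mul, mul_comm, zpow_mul, zpow_natCast, hx, one_zpow])⟩
  obtain ⟨Q', hQ'⟩ := hz.exists_le_sylow
  obtain ⟨g, hg⟩ := MulAction.exists_smul_eq G Q' Q
  refine ⟨g, hQP ?_⟩
  rw [← hg]
  exact Subgroup.smul_mem_pointwise_smul x (MulAut.conj g) _ (hQ' (Subgroup.mem_zpowers x))

theorem card_G2 (F : Type*) [Field F] [Fintype F] :
    Nat.card (chevG2.group F) =
      Fintype.card F ^ 6 * (Fintype.card F ^ 2 - 1) * (Fintype.card F ^ 6 - 1) := by
  have h := Chev.BNSetup.card_group (F := F) Chev.G2.good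
    Chev.BNSetup.facts_chevG2 Chev.BNSetup.kerCertG2 Chev.BNSetup.kerCertG2_valid Chev.WeylTab.levelsG2 rfl
    Chev.WeylTab.levelsOK_G2
  simp only [show chevG2.rank = 2 from rfl, show chevG2.nroots / 2 = 6 from rfl, mul_assoc (Fintype.card F ^ 6),
    Chev.WeylTab.poincare_G2 (Fintype.card F) Fintype.card_pos, Nat.gcd_one_left, one_pow, one_mul] at h
  rw [h]
  ring

theorem card_H (F : Type*) [Field F] [Fintype F] :
    Nat.card (chevG2.diagonalSubgroup F) = (Fintype.card F - 1) ^ 2 := by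
  have h := card_diagonal hgood (F := F) kerCertG2 kerCertG2_valid
  simpa [show chevG2.rank = 2 from rfl] using h

theorem index_H (K : Type*) [Field K] [Fintype K] :
    ((chevG2.diagonalSubgroup K).subgroupOf (chevG2.group K)).index = Fintype.card K ^ 6 *
      ((Fintype.card K + 1) ^ 2 * (Fintype.card K ^ 4 + Fintype.card K ^ 2 + 1)) := by
  have h1 := ((chevG2.diagonalSubgroup K).subgroupOf (chevG2.group K)).card_mul_index
  rw [Nat.card_congr (Subgroup.subgroupOfEquivOfLe (H_le_group (F := K))).toEquiv, card_H, card_G2] at h1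
  obtain ⟨m, hm⟩ : ∃ m, Fintype.card K = m + 1 := ⟨Fintype.card K - 1, by have := Fintype.card_pos (α := K); omega⟩
  have hm1 : 0 < m := by have := Fintype.one_lt_card (α := K); omega
  rw [hm] at h1 ⊢
  rw [show (m + 1) ^ 2 - 1 = m * (m + 2) from Nat.sub_eq_of_eq_add (by ring),
    show (m + 1) ^ 6 - 1 = m * (m + 2) * ((m + 1) ^ 4 + (m + 1) ^ 2 + 1) from Nat.sub_eq_of_eq_add (by ring),
    Nat.add_sub_cancel] at h1
  refine Nat.eq_of_mul_eq_mul_left (pow_pos hm1 2) (h1.trans ?_)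
  ring

theorem entryMap_mem_H {R S : Type*} [Field R] [Field S] (f : R →+* S) {h : GL chevG2.Idx R}
    (hh : h ∈ chevG2.diagonalSubgroup R) : entryMap chevG2 f h ∈ chevG2.diagonalSubgroup S := by
  obtain ⟨τ, rfl⟩ := exists_torElt hgood hh
  rw [torElt, map_list_prod, List.map_map]
  refine list_prod_mem fun y hy => ?_
  obtain ⟨i, hi, rfl⟩ := List.mem_map.1 hy
  show entryMap chevG2 f (he hgood (chevG2.simple i) (τ i : R)) ∈ _
  rw [entryMap_he hgood]
  exact he_mem_H hgood (hgood.simple_lt (List.mem_range.1 hi)) ((map_ne_zero f).2 (τ i).ne_zero)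

/-! ### Finite subfields of an algebraically closed field -/

section Big

variable {F : Type*} [Field F] [Fintype F] (p : ℕ) [Fact p.Prime] [CharP F p] {k : Type*} [Field k] [IsAlgClosed k]
  [CharP k p]
include p

theorem exists_big (ι : F →+* k) {x : GL chevG2.Idx F} (hx : x ∈ chevG2.group F) {e : ℕ} (he : e ≠ 0) :
    ∃ (K : Type) (_ : Field K) (_ : Fintype K) (ι' : K →+* k), Fintype.card K = Fintype.card F ^ e ∧
      ∃ y ∈ chevG2.group K, entryMap chevG2 ι' y = entryMap chevG2 ι x := by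
  obtain ⟨n, -, hn⟩ := FiniteField.card F p
  have hA : n.val * e ≠ 0 := mul_ne_zero n.pos.ne' he
  let _ : Algebra (ZMod p) k := ZMod.algebra k p
  let K := GaloisField p (n.val * e)
  have : Fintype K := Fintype.ofFinite K
  let ι' : K →+* k := (IsAlgClosed.lift : K →ₐ[ZMod p] k).toRingHom
  have hK : Fintype.card K = Fintype.card F ^ e := by
    rw [← Nat.card_eq_fintype_card, GaloisField.card p _ hA, hn, ← pow_mul]
  have : ExpChar k p := .prime Fact.out
  let σ : k ≃+* k := iterateFrobeniusEquiv k p (n.val * e)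
  have hσ : ∀ t, σ t = t ^ Fintype.card K := fun t => by
    rw [hK, hn, ← pow_mul]; exact iterateFrobeniusEquiv_def ..
  have hmem := (mem_image_iff_fixed hgood hf ι' σ hσ 1 (by intro a b h; simpa using h) denG2
    (fun i hi j hj => by
      have := denG2_right i hi j hj
      rwa [TorusData.list_range_sum_eq] at this) (entryMap chevG2 ι x)).2
    ⟨entryMap_mem_group hgood ι hx, Units.ext (Matrix.ext fun i j => by
      show σ (ι ((x : Matrix chevG2.Idx chevG2.Idx F) i j)) = ι ((x : Matrix chevG2.Idx chevG2.Idx F) i j)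
      rw [hσ, ← map_pow, hK, FiniteField.pow_card_pow])⟩
  exact ⟨K, inferInstance, inferInstance, ι', hK, hmem⟩

/-- Conjugation into the torus of elements of prime order at least 5. -/
theorem exists_torus_prime (ι : F →+* k) {r : ℕ} [hr : Fact r.Prime] (h5 : 5 ≤ r) (hrp : r ≠ p)
    {x : GL chevG2.Idx F} (hx : x ∈ chevG2.group F) (hxr : x ^ r = 1) :
    ∃ g ∈ chevG2.group k, g * entryMap chevG2 ι x * g⁻¹ ∈ chevG2.diagonalSubgroup k := by
  obtain ⟨K, _, _, ι', hK, y, hy, hye⟩ := exists_big p ι hx (e := r - 1) (by omega)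
  have hrq : (Fintype.card F : ZMod r) ≠ 0 := by
    rw [Ne, ZMod.natCast_eq_zero_iff]
    obtain ⟨n, hp, hn⟩ := FiniteField.card F p
    rw [hn]
    exact fun h => hrp ((Nat.prime_dvd_prime_iff_eq hr.out hp).1 (hr.out.dvd_of_dvd_pow h))
  have hQ : (Fintype.card K : ZMod r) = 1 := by
    rw [hK, Nat.cast_pow, ZMod.pow_card_sub_one_eq_one hrq]
  have hidx : ¬ r ∣ ((chevG2.diagonalSubgroup K).subgroupOf (chevG2.group K)).index := by
    rw [index_H, ← ZMod.natCast_eq_zero_iff]
    push_cast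
    rw [hQ, show (1 : ZMod r) ^ 6 * ((1 + 1) ^ 2 * (1 ^ 4 + 1 ^ 2 + 1)) = ((12 : ℕ) : ZMod r) by norm_num,
      ZMod.natCast_eq_zero_iff]
    intro h
    have := Nat.le_of_dvd (by norm_num) h
    interval_cases r <;> first | omega | exact absurd hr.out (by norm_num)
  have hyr : (⟨y, hy⟩ : chevG2.group K) ^ r ^ 1 = 1 := by
    rw [pow_one]
    refine Subtype.ext (entryMap_injective ι' ?_)
    show entryMap chevG2 ι' (y ^ r) = entryMap chevG2 ι' 1
    rw [map_pow, hye, ← map_pow, hxr, map_one, map_one]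
  obtain ⟨⟨g, hg⟩, hgy⟩ := exists_conj_mem_of_index r _ hidx hyr
  refine ⟨entryMap chevG2 ι' g, entryMap_mem_group hgood ι' hg, ?_⟩
  rw [← hye, ← map_inv, ← map_mul, ← map_mul]
  exact entryMap_mem_H ι' hgy

end Big

/-! ### The element of order 3 of the Weyl group -/

section Rot

variable (K : Type*) [Field K]

/-- A representative of order dividing 3 of the rotation by two thirds of a turn. -/
noncomputable def mrot : GL chevG2.Idx K := (T K).nw (R3.map ki) * (T K).nw (R3.map ki)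

variable {K}

theorem R3_lt : ∀ i ∈ R3, i < 2 := by simp [R3]

theorem chi_mrot {h : GL chevG2.Idx K} (hh : h ∈ chevG2.diagonalSubgroup K) (s : Fin chevG2.nroots) :
    chi (mrot K * h * (mrot K)⁻¹) s = chi h ((T K).wl (R3.map ki) s) := by
  set w := (T K).wl (R3.map ki) with hw
  have h3 : w (w (w s)) = s := Fin.ext (by
    rw [hw, val_wl R3 R3_lt, val_wl R3 R3_lt, val_wl R3 R3_lt]
    exact rot_facts.1 _ (lt_of_lt_of_eq s.2 G2OddInvol.hn))
  have hn : (T K).nw (R3.map ki) * h * ((T K).nw (R3.map ki))⁻¹ ∈ chevG2.diagonalSubgroup K :=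
    RootBN.Data.nw_H (axioms hgood hf) _ hh
  conv_lhs => rw [← h3]
  rw [mrot, show (T K).nw (R3.map ki) * (T K).nw (R3.map ki) * h *
    ((T K).nw (R3.map ki) * (T K).nw (R3.map ki))⁻¹ = (T K).nw (R3.map ki) *
      ((T K).nw (R3.map ki) * h * ((T K).nw (R3.map ki))⁻¹) * ((T K).nw (R3.map ki))⁻¹ by group, hw,
    chi_nw_conj hgood hf _ hn, chi_nw_conj hgood hf _ hh]

theorem mrot_cube : mrot K ^ 3 = 1 := by
  set m := (T K).nw (R3.map ki) with hm
  set L := R3.map ki ++ (R3.map ki ++ R3.map ki) with hL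
  have hid : ∀ s, (T K).wl L s = s := fun s => Fin.ext (by
    rw [hL, RootBN.Data.wl_append, RootBN.Data.wl_append, Equiv.Perm.mul_apply, Equiv.Perm.mul_apply,
      val_wl R3 R3_lt, val_wl R3 R3_lt, val_wl R3 R3_lt]
    exact rot_facts.1 _ (lt_of_lt_of_eq s.2 G2OddInvol.hn))
  have hH : (T K).nw L ∈ chevG2.diagonalSubgroup K := nw_mem_H hid
  have hsq : (T K).nw L ^ 2 = 1 := by
    refine diagonal_ext hgood (pow_mem hH 2) (one_mem _) fun s => ?_
    obtain ⟨e, he, hx⟩ := nw_conj_xe hgood (F := K) L s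
    have h1 := hx 1
    rw [conj_xe hgood hH, show (data hgood K).wl L s = s from hid s, mul_one, mul_one] at h1
    rw [chi_pow hgood hH, chi_one, xe_inj hgood hf s.2 h1, pow_two, he]
  have e : (T K).nw L = m * (m * m) := by rw [hL, RootBN.Data.nw_append, RootBN.Data.nw_append]
  rw [mrot, ← hm, show (m * m) ^ 3 = ((T K).nw L) ^ 2 by rw [e]; simp only [pow_succ, pow_zero, one_mul]; group, hsq]

theorem mrot_not_mem : mrot K ∉ chevG2.diagonalSubgroup K ∧ mrot K ^ 2 ∉ chevG2.diagonalSubgroup K := by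
  have h1 : mrot K ∉ chevG2.diagonalSubgroup K := by
    intro hH
    have hact := (RootBN.Data.acts_nw (ax K) (R3.map ki)).mul (RootBN.Data.acts_nw (ax K) (R3.map ki))
    have e := RootBN.Data.acts_unique (ax K) hact (RootBN.Data.acts_H (ax K) hH)
    have e7 := congrArg (fun w : Equiv.Perm (Fin chevG2.nroots) => (w (rt 7 (by norm_num))).val) e
    simp only [Equiv.Perm.mul_apply, Equiv.Perm.one_apply, val_wl R3 R3_lt] at e7
    exact rot_facts.2.2.1 e7
  refine ⟨h1, fun h2 => h1 ?_⟩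
  rw [show mrot K = (mrot K ^ 2)⁻¹ by rw [eq_inv_iff_mul_eq_one, ← pow_succ', mrot_cube]]
  exact inv_mem h2

theorem mrot_mul_cube {h : GL chevG2.Idx K} (hh : h ∈ chevG2.diagonalSubgroup K) : (h * mrot K) ^ 3 = 1 := by
  set m := mrot K with hm
  set h₁ := m * h * m⁻¹ with hh₁e
  have hh₁ : h₁ ∈ chevG2.diagonalSubgroup K := by
    have hn : ∀ {y}, y ∈ chevG2.diagonalSubgroup K →
        (T K).nw (R3.map ki) * y * ((T K).nw (R3.map ki))⁻¹ ∈ chevG2.diagonalSubgroup K :=
      fun hy => RootBN.Data.nw_H (axioms hgood hf) _ hy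
    rw [hh₁e, hm, mrot, show ∀ a b : GL chevG2.Idx K, a * a * b * (a * a)⁻¹ = a * (a * b * a⁻¹) * a⁻¹ from
      fun a b => by group]
    exact hn (hn hh)
  have hh₂ : m * h₁ * m⁻¹ ∈ chevG2.diagonalSubgroup K := by
    have hn : ∀ {y}, y ∈ chevG2.diagonalSubgroup K →
        (T K).nw (R3.map ki) * y * ((T K).nw (R3.map ki))⁻¹ ∈ chevG2.diagonalSubgroup K :=
      fun hy => RootBN.Data.nw_H (axioms hgood hf) _ hy
    rw [hm, mrot, show ∀ a b : GL chevG2.Idx K, a * a * b * (a * a)⁻¹ = a * (a * b * a⁻¹) * a⁻¹ from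
      fun a b => by group]
    exact hn (hn hh₁)
  have e : (h * m) ^ 3 = h * h₁ * (m * h₁ * m⁻¹) * m ^ 3 := by
    rw [hh₁e]; simp only [pow_succ, pow_zero, one_mul]; group
  rw [e, hm, mrot_cube, mul_one]
  rw [← hm]
  refine diagonal_ext hgood (mul_mem (mul_mem hh hh₁) hh₂) (one_mem _) fun s => ?_
  rw [chi_one, chi_mul hgood (mul_mem hh hh₁) hh₂, chi_mul hgood hh hh₁, hm, chi_mrot hh₁, hh₁e, chi_mrot hh,
    chi_mrot hh, chi_eq_val hh, chi_eq_val hh, chi_eq_val hh, val_wl R3 R3_lt, val_wl R3 R3_lt, ← Units.val_mul,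
    ← Units.val_mul, Units.val_eq_one, val, val, val,
    show ∀ (x y : Kˣ) (a b c a' b' c' : ℤ), x ^ a * y ^ a' * (x ^ b * y ^ b') * (x ^ c * y ^ c') =
      x ^ (a + b + c) * y ^ (a' + b' + c') from fun x y a b c a' b' c' => by
        simp only [zpow_add]; ac_rfl]
  have hs : s.val < 12 := lt_of_lt_of_eq s.2 G2OddInvol.hn
  simp only [val_wl R3 R3_lt]
  rw [rot_facts.2.2.2.2 s.val hs 0 (by norm_num), rot_facts.2.2.2.2 s.val hs 1 (by norm_num), zpow_zero, zpow_zero,
    one_mul]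

theorem ext_decomp {y : GL chevG2.Idx K}
    (hy : y ∈ chevG2.diagonalSubgroup K ⊔ Subgroup.zpowers (mrot K)) :
    ∃ h ∈ chevG2.diagonalSubgroup K, ∃ i : Fin 3, y = h * mrot K ^ i.val := by
  have hnorm : Subgroup.zpowers (mrot K) ≤
      Subgroup.normalizer (chevG2.diagonalSubgroup K : Set (GL chevG2.Idx K)) := by
    rw [Subgroup.zpowers_le]
    have hN : mrot K ∈ (T K).N := mul_mem (RootBN.Data.nw_mem_N _) (RootBN.Data.nw_mem_N _)
    refine Subgroup.mem_normalizer_iff.2 fun x => ⟨RootBN.Data.N_conj_H (ax K) hN, fun hx => ?_⟩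
    have h' : (mrot K)⁻¹ * (mrot K * x * (mrot K)⁻¹) * ((mrot K)⁻¹)⁻¹ ∈ chevG2.diagonalSubgroup K :=
      RootBN.Data.N_conj_H (ax K) (inv_mem hN) hx
    simpa [mul_assoc] using h'
  rw [← SetLike.mem_coe, Subgroup.coe_mul_of_right_le_normalizer_left _ _ hnorm, Set.mem_mul] at hy
  obtain ⟨h, hh, _, ⟨i, rfl⟩, rfl⟩ := hy
  refine ⟨h, hh, ⟨(i % 3).toNat, by omega⟩, congrArg (h * ·) ?_⟩
  show mrot K ^ i = mrot K ^ (i % 3).toNat
  rw [← zpow_natCast, Int.toNat_of_nonneg (Int.emod_nonneg _ (by norm_num))]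
  conv_lhs => rw [← Int.emod_add_mul_ediv i 3, zpow_add, zpow_mul, show (3 : ℤ) = ((3 : ℕ) : ℤ) from rfl,
    zpow_natCast, mrot_cube, one_zpow, mul_one]
  rfl

theorem cube_eq_one_or_mem {y : GL chevG2.Idx K}
    (hy : y ∈ chevG2.diagonalSubgroup K ⊔ Subgroup.zpowers (mrot K)) :
    y ∈ chevG2.diagonalSubgroup K ∨ y ^ 3 = 1 := by
  obtain ⟨h, hh, i, rfl⟩ := ext_decomp hy
  have hc : mrot K * h⁻¹ * (mrot K)⁻¹ ∈ chevG2.diagonalSubgroup K :=
    RootBN.Data.N_conj_H (ax K) (mul_mem (RootBN.Data.nw_mem_N _) (RootBN.Data.nw_mem_N _)) (inv_mem hh)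
  fin_cases i
  · exact Or.inl (by simpa using hh)
  · exact Or.inr (by simpa using mrot_mul_cube hh)
  · refine Or.inr ?_
    have hm2 : mrot K ^ 2 = (mrot K)⁻¹ := by rw [eq_inv_iff_mul_eq_one, ← pow_succ, mrot_cube]
    have := mrot_mul_cube hc
    rw [inv_mul_cancel_right] at this
    show (h * mrot K ^ 2) ^ 3 = 1
    rw [hm2, ← inv_inj, inv_one, ← inv_pow, mul_inv_rev, inv_inv]
    exact this

theorem card_ext [Fintype K] :
    Nat.card ↥(chevG2.diagonalSubgroup K ⊔ Subgroup.zpowers (mrot K) : Subgroup (GL chevG2.Idx K)) =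
      3 * Nat.card (chevG2.diagonalSubgroup K) := by
  let f : Fin 3 × chevG2.diagonalSubgroup K →
      ↥(chevG2.diagonalSubgroup K ⊔ Subgroup.zpowers (mrot K) : Subgroup (GL chevG2.Idx K)) := fun a =>
    ⟨(a.2 : GL chevG2.Idx K) * mrot K ^ a.1.val, mul_mem (Subgroup.mem_sup_left a.2.2)
      (Subgroup.mem_sup_right (pow_mem (Subgroup.mem_zpowers _) _))⟩
  have hf : Function.Injective f := by
    rintro ⟨i, h⟩ ⟨i', h'⟩ e
    have e' : (h : GL chevG2.Idx K) * mrot K ^ i.val = h' * mrot K ^ i'.val := congrArg Subtype.val e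
    have key : ∀ a b : Fin 3, a.val < b.val → ∀ x y : chevG2.diagonalSubgroup K,
        (x : GL chevG2.Idx K) * mrot K ^ a.val ≠ y * mrot K ^ b.val := by
      intro a b hab x y exy
      have hmem : mrot K ^ (b.val - a.val) ∈ chevG2.diagonalSubgroup K := by
        rw [show b.val = (b.val - a.val) + a.val by omega, pow_add, ← mul_assoc] at exy
        rw [show mrot K ^ (b.val - a.val) = (y : GL chevG2.Idx K)⁻¹ * x by
          rw [mul_right_cancel exy]; group]
        exact mul_mem (inv_mem y.2) x.2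
      rcases (by omega : b.val - a.val = 1 ∨ b.val - a.val = 2) with h1 | h1 <;> rw [h1] at hmem
      · exact mrot_not_mem.1 (by rwa [pow_one] at hmem)
      · exact mrot_not_mem.2 hmem
    rcases lt_trichotomy i.val i'.val with hlt | heq | hgt
    · exact absurd e' (key i i' hlt h h')
    · obtain rfl : i = i' := Fin.ext heq
      exact Prod.ext rfl (Subtype.ext (mul_right_cancel e'))
    · exact absurd e'.symm (key i' i hgt h' h)
  have hsurj : Function.Surjective f := fun y => by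
    obtain ⟨h, hh, i, e⟩ := ext_decomp y.2
    exact ⟨(i, ⟨h, hh⟩), Subtype.ext e.symm⟩
  rw [← Nat.card_eq_of_bijective f ⟨hf, hsurj⟩, Nat.card_prod, Nat.card_fin]

end Rot

end Cfsg.Agent.G2Spectrum
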