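import Cfsg.Agent.Lib.G2Spectrum.Torus

/-!
# Elements of the Levi subgroups and of `L₁ L₂ H` over an algebraically closed field

`exists_levi`, `exists_pair`: an element of finite order `n` of `L_r H`, resp. `L₁ L₂ H`, is conjugate to a torus
element of order dividing `n` times commuting root elements killed by `n`.
-/

set_option autoImplicit false

namespace Cfsg.Agent.G2Spectrum

open Cfsg.Lie Cfsg.Agent.Chev Cfsg.Agent.Chev.BNSetup Cfsg.Agent.G2OddInvol Cfsg.Agent.LangSteinberg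
open scoped MatrixGroups

variable {F : Type*} [Field F]

theorem H_le_group : chevG2.diagonalSubgroup F ≤ chevG2.group F := by
  rw [← data_grp hgood]; exact (axioms hgood hf).H_le

theorem hG_mem_H {r : ℕ} (hr : r < 12) {a : F} (ha : a ≠ 0) : hG chevG2 F r a ∈ chevG2.diagonalSubgroup F :=
  Subgroup.subset_closure ⟨r, a, lt12 hr, ha, hgood.coe_hG _ _⟩

theorem conj_xg {h : GL chevG2.Idx F} (hh : h ∈ chevG2.diagonalSubgroup F) {r : ℕ} (hr : r < 12) (u : F) :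
    h * xg chevG2 F r u * h⁻¹ = xg chevG2 F r (chi h (rt r hr) * u) := by
  have := conj_xe hgood hh (rt r hr) u
  rwa [xe_eq, xe_eq] at this

/-- The diagonal matrices of the conjugation. -/
def theta {c : F} (hc : c ≠ 0) : SL(2, F) →* SL(2, F) :=
  conjSL !![c, 0; 0, 1] !![c⁻¹, 0; 0, 1]
    (by simp [hc, Matrix.one_fin_two])
    (by simp [hc, Matrix.one_fin_two])

theorem conj_phi {h : GL chevG2.Idx F} (hh : h ∈ chevG2.diagonalSubgroup F) {r : ℕ} (hr : r < 12)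
    (g : SL(2, F)) :
    h * phi F hr g * h⁻¹ = phi F hr (theta (chi_ne_zero hgood hh (rt r hr)) g) := by
  obtain ⟨p1, p2, -, -⟩ := phi_spec (F := F) hr
  have hneg : chevG2.neg r = 11 - r := by rw [neg_eq hf (lt12 hr), G2OddInvol.hn]
  refine phi_conj (fun t => ?_) (fun t => ?_) g
  · rw [p1, conj_xg hh hr, show theta (chi_ne_zero hgood hh (rt r hr)) (upperSL t) =
      upperSL (chi h (rt r hr) * t) from Subtype.ext (by
        rw [theta, coe_conjSL, coe_upperSL, coe_upperSL]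
        ext i j; fin_cases i <;> fin_cases j <;>
          simp [Matrix.mul_apply, Fin.sum_univ_two, chi_ne_zero hgood hh]), p1]
  · rw [p2, hneg, conj_xg hh (by omega), show theta (chi_ne_zero hgood hh (rt r hr)) (lowerSL t) =
      lowerSL ((chi h (rt r hr))⁻¹ * t) from Subtype.ext (by
        rw [theta, coe_conjSL, coe_lowerSL, coe_lowerSL]
        ext i j; fin_cases i <;> fin_cases j <;>
          simp [Matrix.mul_apply, Fin.sum_univ_two, chi_ne_zero hgood hh, mul_comm]), p2, hneg,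
      chi_neg hh (r := rt r hr) (s := rt (11 - r) (by omega)) rfl]

section Closed

variable [IsAlgClosed F]

theorem exists_lower_zero (B : Matrix (Fin 2) (Fin 2) F) :
    ∃ C : SL(2, F), ((C : Matrix (Fin 2) (Fin 2) F) * B * (C⁻¹ : SL(2, F))) 1 0 = 0 := by
  by_cases hb : B 0 1 = 0
  · refine ⟨nSL 1, ?_⟩
    rw [Matrix.SpecialLinearGroup.coe_inv, coe_nSL one_ne_zero, Matrix.adjugate_fin_two]
    simp [Matrix.mul_apply, Matrix.vecMul, dotProduct, Fin.sum_univ_two, hb]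
  · obtain ⟨z, hz⟩ := IsAlgClosed.exists_root
      (Polynomial.C (B 0 1) * Polynomial.X ^ 2 + Polynomial.C (B 1 1 - B 0 0) * Polynomial.X +
        Polynomial.C (-B 1 0)) (by rw [Polynomial.degree_quadratic hb]; norm_num)
    refine ⟨lowerSL z, ?_⟩
    simp only [Polynomial.IsRoot.def, Polynomial.eval_add, Polynomial.eval_mul, Polynomial.eval_C,
      Polynomial.eval_pow, Polynomial.eval_X] at hz
    simp only [Matrix.SpecialLinearGroup.coe_inv, coe_lowerSL, Matrix.adjugate_fin_two, Matrix.mul_apply,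
      Fin.sum_univ_two]
    simp
    linear_combination -hz

theorem exists_triag {r : ℕ} (hr : r < 12) (A : SL(2, F)) {h : GL chevG2.Idx F}
    (hh : h ∈ chevG2.diagonalSubgroup F) : ∃ C : SL(2, F), ∃ h' ∈ chevG2.diagonalSubgroup F, ∃ b : F,
      phi F hr C * (phi F hr A * h) * (phi F hr C)⁻¹ = h' * xg chevG2 F r b := by
  set c := chi h (rt r hr) with hc
  have hc0 : c ≠ 0 := chi_ne_zero hgood hh _
  obtain ⟨C, hC⟩ := exists_lower_zero ((A : Matrix (Fin 2) (Fin 2) F) * !![c, 0; 0, 1])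
  set M : SL(2, F) := C * A * theta hc0 C⁻¹ with hM
  have hM0 : (M : Matrix (Fin 2) (Fin 2) F) 1 0 = 0 := by
    have e : (M : Matrix (Fin 2) (Fin 2) F) =
        (C : Matrix (Fin 2) (Fin 2) F) * ((A : Matrix (Fin 2) (Fin 2) F) * !![c, 0; 0, 1]) *
          (C⁻¹ : SL(2, F)) * !![c⁻¹, 0; 0, 1] := by
      rw [hM, theta, Matrix.SpecialLinearGroup.coe_mul, Matrix.SpecialLinearGroup.coe_mul, coe_conjSL]
      simp only [mul_assoc]
    rw [e, Matrix.mul_apply, Fin.sum_univ_two, hC]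
    simp
  rcases sl_decomp M with ⟨a, b, ha, e⟩ | ⟨a, b, x, hb, e⟩
  · refine ⟨C, hG chevG2 F r a * h, mul_mem (hG_mem_H hr ha) hh, c⁻¹ * b, ?_⟩
    have e2 : phi F hr C * (phi F hr A * h) * (phi F hr C)⁻¹ = phi F hr M * h := by
      rw [hM, map_mul, map_mul, ← conj_phi hh hr, ← map_inv (phi F hr) C]
      group
    rw [e2, e, map_mul, phi_torus, (phi_spec hr).1, mul_assoc (hG chevG2 F r a) h]
    have := conj_xg hh hr (c⁻¹ * b)
    rw [← hc, mul_inv_cancel_left₀ hc0, mul_inv_eq_iff_eq_mul] at this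
    rw [this, mul_assoc]
  · exfalso
    rw [e] at hM0
    simp [Matrix.SpecialLinearGroup.coe_mul, coe_nSL hb, coe_upperSL, Matrix.mul_apply, Fin.sum_univ_two, hb] at hM0

omit [IsAlgClosed F] in
theorem exists_elim {r : ℕ} (hr : r < 12) {h : GL chevG2.Idx F} (hh : h ∈ chevG2.diagonalSubgroup F) (b : F) :
    ∃ c b' : F, xg chevG2 F r c * (h * xg chevG2 F r b) * (xg chevG2 F r c)⁻¹ = h * xg chevG2 F r b' ∧
      (b' = 0 ∨ chi h (rt r hr) = 1) := by
  by_cases h1 : chi h (rt r hr) = 1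
  · exact ⟨0, b, by simp [hgood.xg_zero], Or.inr h1⟩
  set c := chi h (rt r hr) with hc
  have hc0 : c ≠ 0 := chi_ne_zero hgood hh _
  have h1' : c - 1 ≠ 0 := sub_ne_zero.2 h1
  refine ⟨c * b / (c - 1), 0, ?_, Or.inl rfl⟩
  have e := conj_xg hh hr (c⁻¹ * (c * b / (c - 1)))
  rw [← hc, mul_inv_cancel_left₀ hc0, mul_inv_eq_iff_eq_mul] at e
  rw [← mul_assoc, ← e, mul_assoc h, mul_assoc h, hgood.xg_add, hgood.xg_inv, hgood.xg_add,
    show c⁻¹ * (c * b / (c - 1)) + b + -(c * b / (c - 1)) = 0 by field_simp; ring]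

omit [IsAlgClosed F] in
theorem commute_of_chi {r : ℕ} (hr : r < 12) {h : GL chevG2.Idx F} (hh : h ∈ chevG2.diagonalSubgroup F) {b : F}
    (hb : b = 0 ∨ chi h (rt r hr) = 1) : Commute h (xg chevG2 F r b) := by
  rcases hb with rfl | h1
  · rw [hgood.xg_zero]; exact Commute.one_right h
  · have e := conj_xg hh hr b
    rwa [h1, one_mul, mul_inv_eq_iff_eq_mul] at e

omit [IsAlgClosed F] in
theorem xg_pow {r : ℕ} (_hr : r < 12) (b : F) (n : ℕ) : xg chevG2 F r b ^ n = xg chevG2 F r ((n : F) * b) := by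
  induction n with
  | zero => simp [hgood.xg_zero]
  | succ n ih => rw [pow_succ, ih, hgood.xg_add]; push_cast; ring_nf

omit [IsAlgClosed F] in
theorem xg_mem_U {r : ℕ} (hr : r < 12) (hpos : 6 ≤ r) (b : F) : xg chevG2 F r b ∈ chevG2.posUnipotent F :=
  Subgroup.subset_closure ⟨r, b, (pos_iff hf (lt12 hr)).2 (by rw [G2OddInvol.hn]; omega), hgood.coe_xg _ _⟩

theorem exists_levi {r : ℕ} (hr : r < 12) (hpos : 6 ≤ r) (A : SL(2, F)) {h : GL chevG2.Idx F}
    (hh : h ∈ chevG2.diagonalSubgroup F) {n : ℕ} (hn : (phi F hr A * h) ^ n = 1) :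
    ∃ g ∈ chevG2.group F, ∃ h' ∈ chevG2.diagonalSubgroup F, ∃ b : F,
      g * (phi F hr A * h) * g⁻¹ = h' * xg chevG2 F r b ∧ h' ^ n = 1 ∧ (n : F) * b = 0 := by
  obtain ⟨C, h', hh', b, e⟩ := exists_triag hr A hh
  obtain ⟨c, b', e', hb'⟩ := exists_elim hr hh' b
  set g := xg chevG2 F r c * phi F hr C
  have eg : g * (phi F hr A * h) * g⁻¹ = h' * xg chevG2 F r b' := by
    rw [← e', ← e]; simp only [g]; group
  refine ⟨g, mul_mem (hgood.xg_mem_group _ _) ((phi_spec hr).2.2.2 C), h', hh', b', eg, ?_⟩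
  have h1 : (h' * xg chevG2 F r b') ^ n = 1 := by rw [← eg, conj_pow, hn, mul_one, mul_inv_cancel]
  rw [(commute_of_chi hr hh' hb').mul_pow, xg_pow hr] at h1
  have h2 : h' ^ n ∈ chevG2.posUnipotent F ⊓ chevG2.diagonalSubgroup F :=
    ⟨by rw [eq_inv_of_mul_eq_one_left h1]; exact Subgroup.inv_mem _ (xg_mem_U hr hpos _), pow_mem hh' n⟩
  rw [U_inf_H hf hgood, Subgroup.mem_bot] at h2
  rw [h2, one_mul] at h1
  exact ⟨h2, by_contra fun h0 => xg_ne_one hr h0 h1⟩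

theorem exists_pair (A B : SL(2, F)) {h : GL chevG2.Idx F} (hh : h ∈ chevG2.diagonalSubgroup F) {n : ℕ}
    (hn : (phi F h8 A * phi F h10 B * h) ^ n = 1) :
    ∃ g ∈ chevG2.group F, ∃ h' ∈ chevG2.diagonalSubgroup F, ∃ b b' : F,
      g * (phi F h8 A * phi F h10 B * h) * g⁻¹ = h' * (xg chevG2 F 8 b * xg chevG2 F 10 b') ∧
        h' ^ n = 1 ∧ (n : F) * b = 0 ∧ (n : F) * b' = 0 := by
  obtain ⟨C, h₁, hh₁, b₁, e₁⟩ := exists_triag h10 B hh
  obtain ⟨C', h₂, hh₂, b₂, e₂⟩ := exists_triag h8 A hh₁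
  obtain ⟨c, b, e₃, hb⟩ := exists_elim h8 hh₂ b₂
  obtain ⟨c', b', e₄, hb'⟩ := exists_elim h10 hh₂ b₁
  have k : ∀ (X : SL(2, F)) (t : F), Commute (phi F h8 X) (xg chevG2 F 10 t) := fun X t => by
    rw [← (phi_spec h10).1 t]; exact L_commute X _
  have k8 : ∀ t t' : F, Commute (xg chevG2 F 8 t) (xg chevG2 F 10 t') := fun t t' => by
    rw [← (phi_spec (F := F) h8).1 t]; exact k _ t'
  set y := phi F h8 A * phi F h10 B * h with hy
  have s1 : phi F h10 C * y * (phi F h10 C)⁻¹ = phi F h8 A * (h₁ * xg chevG2 F 10 b₁) := by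
    rw [← e₁, hy]
    calc _ = (phi F h10 C * phi F h8 A) * (phi F h10 B * h) * (phi F h10 C)⁻¹ := by group
      _ = _ := by rw [← L_commute]; group
  have s2 : phi F h8 C' * (phi F h8 A * (h₁ * xg chevG2 F 10 b₁)) * (phi F h8 C')⁻¹ =
      h₂ * xg chevG2 F 8 b₂ * xg chevG2 F 10 b₁ := by
    rw [← e₂]
    calc _ = phi F h8 C' * (phi F h8 A * h₁) * (phi F h8 C')⁻¹ *
          (phi F h8 C' * xg chevG2 F 10 b₁ * (phi F h8 C')⁻¹) := by group
      _ = _ := by rw [(k C' b₁).eq, mul_inv_cancel_right]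
  have s3 : xg chevG2 F 8 c * (h₂ * xg chevG2 F 8 b₂ * xg chevG2 F 10 b₁) * (xg chevG2 F 8 c)⁻¹ =
      h₂ * xg chevG2 F 10 b₁ * xg chevG2 F 8 b := by
    calc _ = xg chevG2 F 8 c * (h₂ * xg chevG2 F 8 b₂) * (xg chevG2 F 8 c)⁻¹ *
          (xg chevG2 F 8 c * xg chevG2 F 10 b₁ * (xg chevG2 F 8 c)⁻¹) := by group
      _ = _ := by rw [e₃, (k8 c b₁).eq, mul_inv_cancel_right, mul_assoc, (k8 b b₁).eq, ← mul_assoc]
  have s4 : xg chevG2 F 10 c' * (h₂ * xg chevG2 F 10 b₁ * xg chevG2 F 8 b) * (xg chevG2 F 10 c')⁻¹ =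
      h₂ * (xg chevG2 F 8 b * xg chevG2 F 10 b') := by
    calc _ = xg chevG2 F 10 c' * (h₂ * xg chevG2 F 10 b₁) * (xg chevG2 F 10 c')⁻¹ *
          (xg chevG2 F 10 c' * xg chevG2 F 8 b * (xg chevG2 F 10 c')⁻¹) := by group
      _ = _ := by rw [e₄, ← (k8 b c').eq, mul_inv_cancel_right, mul_assoc, ← (k8 b b').eq]
  set g := xg chevG2 F 10 c' * xg chevG2 F 8 c * phi F h8 C' * phi F h10 C
  have eg : g * y * g⁻¹ = h₂ * (xg chevG2 F 8 b * xg chevG2 F 10 b') := by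
    rw [← s4, ← s3, ← s2, ← s1]; simp only [g]; group
  refine ⟨g, mul_mem (mul_mem (mul_mem (hgood.xg_mem_group _ _) (hgood.xg_mem_group _ _))
    ((phi_spec h8).2.2.2 _)) ((phi_spec h10).2.2.2 _), h₂, hh₂, b, b', eg, ?_⟩
  have h1 : (h₂ * (xg chevG2 F 8 b * xg chevG2 F 10 b')) ^ n = 1 := by
    rw [← eg, conj_pow, hn, mul_one, mul_inv_cancel]
  rw [((commute_of_chi h8 hh₂ hb).mul_right (commute_of_chi h10 hh₂ hb')).mul_pow, (k8 b b').mul_pow,
    xg_pow h8, xg_pow h10] at h1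
  have h2 : h₂ ^ n ∈ chevG2.posUnipotent F ⊓ chevG2.diagonalSubgroup F :=
    ⟨by rw [eq_inv_of_mul_eq_one_left h1]
        exact Subgroup.inv_mem _ (Subgroup.mul_mem _ (xg_mem_U h8 (by norm_num) _) (xg_mem_U h10 (by norm_num) _)), pow_mem hh₂ n⟩
  rw [U_inf_H hf hgood, Subgroup.mem_bot] at h2
  rw [h2, one_mul] at h1
  have h3 : (n : F) * b = 0 := by
    by_contra h0
    have e := eq_inv_of_mul_eq_one_left h1
    rw [hgood.xg_inv, ← xe_eq, ← xe_eq] at e
    exact xe_ne hgood hf (lt12 h8) (lt12 h10) (by norm_num) h0 _ e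
  rw [h3, hgood.xg_zero, one_mul] at h1
  exact ⟨h2, h3, by_contra fun h0 => xg_ne_one h10 h0 h1⟩

end Closed

end Cfsg.Agent.G2Spectrum
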