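import Cfsg.Agent.Lib.G2Spectrum.Witness

/-!
# The element orders of `G₂(q)` maximal under divisibility
-/

set_option autoImplicit false

namespace Cfsg.Agent.G2Spectrum

open Cfsg.Lie

/-- The maximal elements of a set generated by an antichain of orders. -/
theorem maximal_eq {O S : Set ℕ} (h1 : S ⊆ O) (h2 : ∀ n ∈ O, ∃ m ∈ S, n ∣ m)
    (h3 : ∀ a ∈ S, ∀ b ∈ S, a ∣ b → b = a) : {n | n ∈ O ∧ ∀ m ∈ O, n ∣ m → m = n} = S := by
  ext n
  constructor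
  · rintro ⟨hn, hmax⟩
    obtain ⟨m, hm, hnm⟩ := h2 n hn
    exact hmax m (h1 hm) hnm ▸ hm
  · refine fun hn => ⟨h1 hn, fun m hm hnm => ?_⟩
    obtain ⟨b, hb, hmb⟩ := h2 m hm
    have e := h3 n hn b hb (hnm.trans hmb)
    exact Nat.dvd_antisymm (e ▸ hmb) hnm

theorem eq_of_dvd_lt_two_mul {a b : ℕ} (h : a ∣ b) (hb : 0 < b) (hlt : b < 2 * a) : b = a := by
  obtain ⟨c, rfl⟩ := h
  rcases (by omega : c = 0 ∨ c = 1 ∨ 2 ≤ c) with rfl | rfl | hc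
  · simp at hb
  · rw [mul_one]
  · have := Nat.mul_le_mul_left a hc; omega

/-- The antichain property for odd `q`. -/
theorem antichain {p q : ℕ} (hp : p.Prime) (hpq : p ∣ q) (hq : 5 ≤ q) {x y : ℕ}
    (hx : x ∈ ({p * (q + 1), p * (q - 1), q ^ 2 - 1, q ^ 2 + q + 1, q ^ 2 - q + 1, p ^ 2} : Set ℕ))
    (hy : y ∈ ({p * (q + 1), p * (q - 1), q ^ 2 - 1, q ^ 2 + q + 1, q ^ 2 - q + 1, p ^ 2} : Set ℕ))
    (h : x ∣ y) : y = x := by
  have hp2 := hp.two_le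
  have h5 : 5 * q ≤ q ^ 2 := by rw [pow_two]; exact Nat.mul_le_mul_right q hq
  have hpqq : p ∣ q ^ 2 := dvd_pow hpq two_ne_zero
  have hnd : ∀ {m : ℕ}, p ∣ m → ¬ p ∣ m + 1 := fun {m} hm h => hp.not_dvd_one ((Nat.dvd_add_right hm).1 h)
  have hnd' : ∀ {m : ℕ}, 1 ≤ m → p ∣ m → ¬ p ∣ m - 1 := fun {m} h1 hm h => by
    have := Nat.dvd_sub hm h
    rw [show m - (m - 1) = 1 by omega] at this
    exact hp.not_dvd_one this
  have nA : ¬ p ∣ q + 1 := hnd hpq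
  have nB : ¬ p ∣ q - 1 := hnd' (by omega) hpq
  have nC : ¬ p ∣ q ^ 2 - 1 := hnd' (by omega) hpqq
  have nD : ¬ p ∣ q ^ 2 + q + 1 := hnd (dvd_add hpqq hpq)
  have nE : ¬ p ∣ q ^ 2 - q + 1 := hnd (Nat.dvd_sub hpqq hpq)
  -- a number prime to p dividing a multiple of p divides the cofactor
  have cop : ∀ {a b : ℕ}, ¬ p ∣ a → a ∣ p * b → a ∣ b := fun {a b} ha hd =>
    (Nat.Coprime.symm ((hp.coprime_iff_not_dvd).2 ha)).dvd_of_dvd_mul_left hd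
  have le : ∀ {a b : ℕ}, a ∣ b → 0 < b → a ≤ b := fun h hb => Nat.le_of_dvd hb h
  have dp : ∀ {a : ℕ}, ¬ p ∣ a → a ∣ p ^ 2 → a = 1 := fun {a} ha hd =>
    ((Nat.Coprime.pow_left 2 ((hp.coprime_iff_not_dvd).2 ha)).symm).eq_one_of_dvd hd
  have cls : ∀ {z : ℕ},
      z ∈ ({p * (q + 1), p * (q - 1), q ^ 2 - 1, q ^ 2 + q + 1, q ^ 2 - q + 1, p ^ 2} : Set ℕ) →
      (∃ c, (c = q + 1 ∨ c = q - 1) ∧ z = p * c) ∨
        ((z = q ^ 2 - 1 ∨ z = q ^ 2 + q + 1 ∨ z = q ^ 2 - q + 1) ∧ ¬ p ∣ z) ∨ z = p ^ 2 := by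
    intro z hz
    simp only [Set.mem_insert_iff, Set.mem_singleton_iff] at hz
    rcases hz with rfl | rfl | rfl | rfl | rfl | rfl
    · exact Or.inl ⟨_, Or.inl rfl, rfl⟩
    · exact Or.inl ⟨_, Or.inr rfl, rfl⟩
    · exact Or.inr (Or.inl ⟨Or.inl rfl, nC⟩)
    · exact Or.inr (Or.inl ⟨Or.inr (Or.inl rfl), nD⟩)
    · exact Or.inr (Or.inl ⟨Or.inr (Or.inr rfl), nE⟩)
    · exact Or.inr (Or.inr rfl)
  have hc : ∀ {c : ℕ}, c = q + 1 ∨ c = q - 1 → ¬ p ∣ c ∧ 4 ≤ c ∧ c ≤ q + 1 := by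
    rintro c (rfl | rfl)
    exacts [⟨nA, by omega, le_rfl⟩, ⟨nB, by omega, by omega⟩]
  rcases cls hx with ⟨c, hcc, rfl⟩ | ⟨hxc, hxp⟩ | rfl
  · rcases cls hy with ⟨d, hdd, rfl⟩ | ⟨-, hyp⟩ | rfl
    · have h' := Nat.dvd_of_mul_dvd_mul_left hp.pos h
      rw [eq_of_dvd_lt_two_mul h' (by omega) (by omega)]
    · exact absurd (dvd_trans (dvd_mul_right p c) h) hyp
    · rw [pow_two] at h
      obtain ⟨hcp, hc4, -⟩ := hc hcc
      rcases hp.eq_one_or_self_of_dvd _ (Nat.dvd_of_mul_dvd_mul_left hp.pos h) with e | e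
      · omega
      · exact absurd (dvd_of_eq e.symm) hcp
  · rcases cls hy with ⟨d, hdd, rfl⟩ | ⟨hyc, -⟩ | rfl
    · obtain ⟨-, hd4, hd⟩ := hc hdd
      have := le (cop hxp h) (by omega)
      omega
    · refine eq_of_dvd_lt_two_mul h (by omega) ?_
      by_contra hlt
      have := le h (by omega)
      omega
    · have := dp hxp h
      omega
  · rcases cls hy with ⟨d, hdd, rfl⟩ | ⟨-, hyp⟩ | rfl
    · rw [pow_two] at h
      exact absurd (Nat.dvd_of_mul_dvd_mul_left hp.pos h) (hc hdd).1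
    · exact absurd (dvd_trans (dvd_pow_self p two_ne_zero) h) hyp
    · rfl

theorem orderOf_subtype_cases {F : Type*} [Field F] [Fintype F] (p : ℕ) [Fact p.Prime] [CharP F p]
    (g : chevG2.group F) : OrderCase p (Fintype.card F) (orderOf g) := by
  rw [← Subgroup.orderOf_coe]
  exact orderOf_dvd_cases p g.2

theorem charP_of_card {F : Type*} [Field F] [Fintype F] {p a : ℕ} (hp : p.Prime) (hF : Fintype.card F = p ^ a) :
    CharP F p := by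
  obtain ⟨r, hr⟩ := CharP.exists F
  obtain ⟨n, hrp, hn⟩ := FiniteField.card F r
  rw [hF] at hn
  have : r = p := (Nat.prime_dvd_prime_iff_eq hrp hp).1
    (hrp.dvd_of_dvd_pow (hn.symm ▸ dvd_pow_self r n.pos.ne'))
  exact this ▸ hr

end Cfsg.Agent.G2Spectrum
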