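import Cfsg.Agent.Lib.G2Spectrum.Diag

/-!
# Elements of order prime to `p` in `G₂(q)`

`exists_torus`: they are conjugate into the torus over an algebraically closed field, unless their order is 3.
-/

set_option autoImplicit false

namespace Cfsg.Agent.G2Spectrum

open Cfsg.Lie Cfsg.Agent.Chev Cfsg.Agent.Chev.BNSetup Cfsg.Agent.G2OddInvol Cfsg.Agent.LangSteinberg
open scoped MatrixGroups

theorem hG_eq_he {L : Type*} [Field L] (r : ℕ) (t : L) : hG chevG2 L r t = he hgood r t :=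
  Units.ext ((hgood.coe_hG r t).trans (coe_he hgood r t).symm)

theorem entryMap_base {R S : Type*} [Field R] [Field S] (f : R →+* S) :
    entryMap chevG2 f (base : GL chevG2.Idx R) = base := by
  rw [base, base, hh, hh, map_mul, hG_eq_he, hG_eq_he, entryMap_he hgood, entryMap_he hgood, map_neg, map_one,
    hG_eq_he, hG_eq_he]

/-- Elements commuting with the base involution. -/
theorem exists_pair_of_commute {k : Type*} [Field k] (h2 : (2 : k) ≠ 0) {y : GL chevG2.Idx k}
    (hy : y ∈ chevG2.group k) (hc : y * base = base * y) :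
    ∃ A B : SL(2, k), ∃ h ∈ chevG2.diagonalSubgroup k, y = phi k h8 A * phi k h10 B * h := by
  have hmem : y ∈ K k := by
    rw [← centralizer_eq h2]
    exact ⟨hy, Subgroup.mem_centralizer_singleton_iff.2 hc⟩
  obtain ⟨m, hm, a, b, ha, hb, rfl⟩ := exists_of_mem_K hmem
  rw [← range_psi] at hm
  obtain ⟨⟨A, B⟩, rfl⟩ := hm
  exact ⟨A, B, hh a b, hh_mem ha hb, rfl⟩

variable {F : Type*} [Field F] [Fintype F] (p : ℕ) [Fact p.Prime] [CharP F p] {k : Type*} [Field k] [IsAlgClosed k]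
  [CharP k p] (ι : F →+* k)
include p

theorem exists_torus_three (hp3 : p ≠ 3) {x : GL chevG2.Idx F} (hx : x ∈ chevG2.group F) {b : ℕ}
    (hxb : x ^ 3 ^ b = 1) :
    (∃ g ∈ chevG2.group k, g * entryMap chevG2 ι x * g⁻¹ ∈ chevG2.diagonalSubgroup k) ∨ x ^ 3 = 1 := by
  obtain ⟨K, _, _, ι', hK, y, hy, hye⟩ := exists_big p ι hx two_ne_zero
  have : Fact (Nat.Prime 3) := ⟨Nat.prime_three⟩
  obtain ⟨m, hm⟩ : ∃ m, Fintype.card K = 3 * m + 1 := by
    obtain ⟨n, hp, hn⟩ := FiniteField.card F p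
    have hq : Fintype.card F % 3 ≠ 0 := fun h => hp3 ((Nat.prime_dvd_prime_iff_eq Nat.prime_three hp).1
      (Nat.prime_three.dvd_of_dvd_pow (hn ▸ Nat.dvd_of_mod_eq_zero h))).symm
    refine ⟨Fintype.card K / 3, ?_⟩
    have : Fintype.card K % 3 = 1 := by
      rw [hK, Nat.pow_mod]
      rcases (by omega : Fintype.card F % 3 = 1 ∨ Fintype.card F % 3 = 2) with h | h <;> rw [h]
    omega
  set P := (chevG2.diagonalSubgroup K ⊔ Subgroup.zpowers (mrot K)).subgroupOf (chevG2.group K)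
  have hPle : chevG2.diagonalSubgroup K ⊔ Subgroup.zpowers (mrot K) ≤ chevG2.group K :=
    sup_le H_le_group (Subgroup.zpowers_le.2
      (mul_mem (mem_group_of_mem_N (RootBN.Data.nw_mem_N _)) (mem_group_of_mem_N (RootBN.Data.nw_mem_N _))))
  have hidx : ¬ 3 ∣ P.index := by
    have h1 := P.card_mul_index
    rw [Nat.card_congr (Subgroup.subgroupOfEquivOfLe hPle).toEquiv, card_ext] at h1
    have h2 := ((chevG2.diagonalSubgroup K).subgroupOf (chevG2.group K)).card_mul_index
    rw [Nat.card_congr (Subgroup.subgroupOfEquivOfLe (H_le_group (F := K))).toEquiv, index_H, ← h1, mul_comm 3,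
      mul_assoc] at h2
    have e := Nat.eq_of_mul_eq_mul_left Nat.card_pos h2
    rintro ⟨c, hc⟩
    have key : ∀ z : ZMod 9, 3 * z = 3 → z ^ 6 * ((z + 1) ^ 2 * (z ^ 4 + z ^ 2 + 1)) ≠ 0 := by decide +kernel
    have h9 : (9 : ZMod 9) = 0 := by decide
    have hz : 3 * (Fintype.card K : ZMod 9) = 3 := by
      rw [hm]; push_cast; linear_combination (m : ZMod 9) * h9
    refine key _ hz ?_
    have := congrArg (fun n : ℕ => (n : ZMod 9)) e
    push_cast [hc] at this
    rw [this]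
    linear_combination (c : ZMod 9) * h9
  have hyb : (⟨y, hy⟩ : chevG2.group K) ^ 3 ^ b = 1 := Subtype.ext (entryMap_injective ι' (by
    show entryMap chevG2 ι' (y ^ 3 ^ b) = entryMap chevG2 ι' 1
    rw [map_pow, hye, ← map_pow, hxb, map_one, map_one]))
  obtain ⟨⟨g, hg⟩, hgy⟩ := exists_conj_mem_of_index 3 P hidx hyb
  rcases cube_eq_one_or_mem (show g * y * g⁻¹ ∈ _ from hgy) with h | h
  · refine Or.inl ⟨entryMap chevG2 ι' g, entryMap_mem_group hgood ι' hg, ?_⟩
    rw [← hye, ← map_inv, ← map_mul, ← map_mul]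
    exact entryMap_mem_H ι' h
  · refine Or.inr (entryMap_injective ι ?_)
    rw [conj_pow, conj_eq_one_iff] at h
    rw [map_pow, ← hye, ← map_pow, h, map_one, map_one]

/-- Elements of order prime to `p` other than 3 are conjugate into the torus. -/
theorem exists_torus {x : GL chevG2.Idx F} (hx : x ∈ chevG2.group F) {n : ℕ} (hn : orderOf x = n)
    (hnk : (n : k) ≠ 0) (hn3 : n ≠ 3) :
    ∃ g ∈ chevG2.group k, g * entryMap chevG2 ι x * g⁻¹ ∈ chevG2.diagonalSubgroup k := by
  have hn0 : n ≠ 0 := fun h => hnk (by rw [h, Nat.cast_zero])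
  have hxn : x ^ n = 1 := hn ▸ pow_orderOf_eq_one x
  have hmap : ∀ m, (entryMap chevG2 ι x) ^ m = 1 ↔ n ∣ m := fun m => by
    rw [← map_pow, ← map_one (entryMap chevG2 ι), (entryMap_injective ι).eq_iff, ← hn, orderOf_dvd_iff_pow_eq_one]
  have hxG := entryMap_mem_group hgood ι hx
  by_cases hr : ∃ r, r.Prime ∧ 5 ≤ r ∧ r ∣ n
  · obtain ⟨r, hr, h5, hrn⟩ := hr
    have : Fact r.Prime := ⟨hr⟩
    have hrp : r ≠ p := fun e => hnk ((CharP.cast_eq_zero_iff k p n).2 (e ▸ hrn))
    obtain ⟨g, hg, ht⟩ := exists_torus_prime p ι h5 hrp (pow_mem hx (n / r))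
      (by rw [← pow_mul, Nat.div_mul_cancel hrn, hxn])
    set t := g * entryMap chevG2 ι (x ^ (n / r)) * g⁻¹ with htdef
    have hord : ∀ m, m < 4 → 0 < m → t ^ m ≠ 1 := fun m hm hm0 e => by
      rw [htdef, conj_pow, conj_eq_one_iff, map_pow, ← pow_mul, hmap] at e
      obtain ⟨c, hc⟩ := hrn
      rw [hc, Nat.mul_div_cancel_left _ hr.pos, mul_comm r, Nat.mul_dvd_mul_iff_left
        (Nat.pos_of_ne_zero fun h => hn0 (by rw [hc, h, mul_zero]))] at e
      have := Nat.le_of_dvd hm0 e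
      omega
    obtain ⟨g', hg', h'⟩ := conj_torus_of_commute ht (hord 2 (by norm_num) (by norm_num))
      (hord 3 (by norm_num) (by norm_num)) (mul_mem (mul_mem hg hxG) (inv_mem hg))
      (by rw [htdef, map_pow, conj_mul, conj_mul, ← pow_succ, ← pow_succ']) hnk
      (by rw [conj_pow, ← map_pow, hxn, map_one, mul_one, mul_inv_cancel])
    exact ⟨g' * g, mul_mem hg' hg, by convert h' using 1; group⟩
  by_cases h2 : 2 ∣ n
  · obtain ⟨m, rfl⟩ := h2
    have h2k : (2 : k) ≠ 0 := fun e => hnk (by rw [Nat.cast_mul, Nat.cast_two, e, zero_mul])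
    have h2F : (2 : F) ≠ 0 := fun e => h2k (by rw [← map_ofNat ι 2, e, map_zero])
    have hz : x ^ m * x ^ m = 1 := by rw [← pow_add, ← two_mul]; exact hxn
    have hz1 : x ^ m ≠ 1 := fun e => by
      have := Nat.le_of_dvd (by omega) (hn ▸ orderOf_dvd_of_pow_eq_one e); omega
    obtain ⟨g₀, hg₀, e⟩ := cj_base h2F (pow_mem hx m) hz hz1
    set y := entryMap chevG2 ι (g₀ * x * g₀⁻¹) with hy
    have hyG : y ∈ chevG2.group k := entryMap_mem_group hgood ι (mul_mem (mul_mem hg₀ hx) (inv_mem hg₀))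
    have hc : y * base = base * y := by
      rw [← entryMap_base ι, hy, ← map_mul, ← map_mul, ← e, conj_mul, conj_mul, ← pow_succ, ← pow_succ']
    obtain ⟨A, B, h, hh, e'⟩ := exists_pair_of_commute h2k hyG hc
    obtain ⟨g, hg, h', hh', b, b', eg, -, hb, hb'⟩ := exists_pair A B hh (n := 2 * m)
      (by rw [← e', hy, ← map_pow, conj_pow, hxn, mul_one, mul_inv_cancel, map_one])
    rw [(mul_eq_zero.1 hb).resolve_left hnk, (mul_eq_zero.1 hb').resolve_left hnk, hgood.xg_zero, hgood.xg_zero,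
      mul_one, mul_one, ← e', hy, map_mul, map_mul, map_inv] at eg
    refine ⟨g * entryMap chevG2 ι g₀, mul_mem hg (entryMap_mem_group hgood ι hg₀), ?_⟩
    convert hh' using 1
    rw [← eg]; group
  have hpow : n = 3 ^ n.primeFactorsList.length := by
    refine Nat.eq_prime_pow_of_unique_prime_dvd hn0 fun {d} hd hdn => ?_
    by_contra h3
    push Not at hr
    have h5 := not_le.2 (lt_of_not_ge fun h => hr d hd h hdn)
    have := hd.two_le
    rcases (by omega : d = 2 ∨ d = 4) with rfl | rfl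
    · exact h2 hdn
    · exact absurd hd (by norm_num)
  by_cases h1 : n = 1
  · refine ⟨1, one_mem _, ?_⟩
    rw [orderOf_eq_one_iff.1 (hn.trans h1), map_one]; simp
  have h3 : 3 ∣ n := by
    obtain ⟨q, hq, hqn⟩ := Nat.exists_prime_and_dvd h1
    have : q ∣ 3 := hq.dvd_of_dvd_pow (hpow ▸ hqn)
    exact (Nat.prime_dvd_prime_iff_eq hq Nat.prime_three).1 this ▸ hqn
  rcases exists_torus_three p ι (fun e => hnk ((CharP.cast_eq_zero_iff k p n).2 (e ▸ h3))) hx
    (hpow ▸ hxn) with h | h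
  · exact h
  · exact absurd (Nat.dvd_antisymm (hn ▸ orderOf_dvd_of_pow_eq_one h) h3) hn3

end Cfsg.Agent.G2Spectrum
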