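import Cfsg.Agent.Lib.G2Spectrum.Unip
import Cfsg.Agent.Lib.G2Spectrum.Semi

/-!
# Regular unipotent elements of `G₂(q)` commute with no nontrivial element of order prime to `p`

`mem_radical_of_commute`: a `p`-element commuting with a nontrivial element of order prime to `p` is conjugate into one
of the two maximal radicals.
-/

set_option autoImplicit false
set_option maxRecDepth 100000

namespace Cfsg.Agent.G2Spectrum

open Cfsg.Lie Cfsg.Agent.Chev Cfsg.Agent.Chev.BNSetup Cfsg.Agent.G2OddInvol Cfsg.Agent.LangSteinberg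

theorem reg_facts : (∀ r < 12, r ∈ [6, 8, 9, 10, 11] → 6 ≤ wn [0] r) ∧ ¬ 6 ≤ wn [0] 7 ∧
    ∀ r < 12, wn [0] (wn [0] r) = r := by decide +kernel

variable {F : Type*} [Field F]

theorem RA_conj {b g : GL chevG2.Idx F} (hb : b ∈ chevG2.borelSubgroup F) (hg : g ∈ Uge hgood F 7) :
    b * g * b⁻¹ ∈ Uge hgood F 7 :=
  borel_conj_Uge hgood hf (by rw [G2OddInvol.hn]; norm_num) ((data_B hgood hf).ge hb) hg

theorem U_conj {b g : GL chevG2.Idx F} (hb : b ∈ chevG2.borelSubgroup F) (hg : g ∈ chevG2.posUnipotent F) :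
    b * g * b⁻¹ ∈ chevG2.posUnipotent F := by
  rw [← Uge_eq_U hgood hf] at hg ⊢
  exact borel_conj_Uge hgood hf le_rfl ((data_B hgood hf).ge hb) hg

theorem Uge_eight_le_RB : Uge hgood F 8 ≤ RB F := by
  rw [Uge, Subgroup.closure_le]
  rintro _ ⟨r, t, hr, h8, rfl⟩
  have : r < 12 := lt_of_lt_of_eq hr G2OddInvol.hn
  exact Subgroup.subset_closure ⟨r, by simp only [List.mem_cons, List.not_mem_nil, or_false]; omega, t, rfl⟩

theorem RB_conj {b g : GL chevG2.Idx F} (hb : b ∈ chevG2.borelSubgroup F) (hg : g ∈ RB F) :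
    b * g * b⁻¹ ∈ RB F := by
  have hgen : ∀ r : ℕ, r ∈ [6, 8, 9, 10, 11] → r < chevG2.nroots ∧ 6 ≤ r := fun r hr => by
    simp only [List.mem_cons, List.not_mem_nil, or_false] at hr
    have := G2OddInvol.hn
    omega
  have key : ∀ b : GL chevG2.Idx F, (∀ r, r ∈ [6, 8, 9, 10, 11] → ∀ t, b * xe hgood r t * b⁻¹ ∈ RB F) →
      ∀ g ∈ RB F, b * g * b⁻¹ ∈ RB F := fun b h g hg => by
    refine (show RB F ≤ (RB F).comap (MulAut.conj b).toMonoidHom from ?_) hg
    conv_lhs => rw [RB]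
    rw [Subgroup.closure_le]
    rintro _ ⟨r, hr, t, rfl⟩
    exact h r hr t
  have hU : ∀ u ∈ chevG2.posUnipotent F, ∀ g ∈ RB F, u * g * u⁻¹ ∈ RB F := by
    intro u hu
    rw [← Uge_eq_U hgood hf] at hu
    have hx : ∀ r t, r < chevG2.nroots → chevG2.nroots / 2 ≤ r → ∀ g ∈ RB F,
        xe hgood r t * g * (xe hgood r t)⁻¹ ∈ RB F := fun r t hr hr' => key _ fun s hs v => by
      obtain ⟨hs', hs6⟩ := hgen s hs
      by_cases hsr : s = r
      · subst hsr
        rw [xe_add hgood hr, add_comm, ← xe_add hgood hr, mul_inv_cancel_right]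
        exact Subgroup.subset_closure ⟨s, hs, v, rfl⟩
      refine xe_conj_mem hgood hf hr hs' hr' (by rw [G2OddInvol.hn]; omega) hsr t v
        (Subgroup.subset_closure ⟨s, hs, v, rfl⟩) fun k hk h1 h2 w => ?_
      refine Subgroup.subset_closure ⟨k, ?_, w, rfl⟩
      have := G2OddInvol.hn
      simp only [List.mem_cons, List.not_mem_nil, or_false]
      omega
    induction hu using Subgroup.closure_induction_left with
    | one => intro g hg; simpa using hg
    | mul_left x hx' z _ ih =>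
      obtain ⟨r, t, hr, hkr, rfl⟩ := hx'
      intro g hg
      simpa [mul_assoc] using hx r t hr hkr _ (ih g hg)
    | inv_mul_cancel x hx' z _ ih =>
      obtain ⟨r, t, hr, hkr, rfl⟩ := hx'
      intro g hg
      rw [xe_inv hgood hr]
      simpa [mul_assoc] using hx r (-t) hr hkr _ (ih g hg)
  obtain ⟨u, hu, h, hh, rfl⟩ := borel_decomp hgood hf hb
  have h1 : h * g * h⁻¹ ∈ RB F := key h (fun r hr t => by
    rw [conj_xe hgood hh ⟨r, (hgen r hr).1⟩]
    exact Subgroup.subset_closure ⟨r, hr, _, rfl⟩) g hg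
  simpa [mul_assoc] using hU u hu _ h1

theorem decompA {v : GL chevG2.Idx F} (hv : v ∈ chevG2.posUnipotent F) :
    ∃ c : F, ∃ w ∈ Uge hgood F 7, v = xg chevG2 F 6 c * w := by
  rw [← Uge_eq_U hgood hf, show chevG2.nroots / 2 = 6 by rw [G2OddInvol.hn]] at hv
  obtain ⟨c, w, hw, e⟩ := Uge_split hgood hf (lt12 (by norm_num : (6 : ℕ) < 12)) (by rw [G2OddInvol.hn]) hv
  exact ⟨c, w, hw, by rw [← xe_eq]; exact e⟩

theorem decompB {v : GL chevG2.Idx F} (hv : v ∈ chevG2.posUnipotent F) :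
    ∃ c : F, ∃ w ∈ RB F, v = xg chevG2 F 7 c * w := by
  obtain ⟨a, w, hw, rfl⟩ := decompA hv
  obtain ⟨c, w', hw', rfl⟩ := Uge_split hgood hf (lt12 (by norm_num : (7 : ℕ) < 12)) (by rw [G2OddInvol.hn]; norm_num) hw
  refine ⟨c, (xe hgood 7 c)⁻¹ * xg chevG2 F 6 a * xe hgood 7 c * w', mul_mem ?_ (Uge_eight_le_RB hw'),
    by rw [← xe_eq 7 c]; group⟩
  have hb : (xe hgood 7 c)⁻¹ ∈ chevG2.borelSubgroup F := inv_mem (Subgroup.mem_sup_left
    (by rw [← Uge_eq_U hgood hf]; exact xe_mem_Uge hgood (lt12 (by norm_num)) (by rw [G2OddInvol.hn]; norm_num) c))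
  have := RB_conj hb (show xg chevG2 F 6 a ∈ RB F from
    Subgroup.subset_closure ⟨6, by simp, a, (xe_eq 6 a).symm⟩)
  rwa [inv_inv] at this

theorem RB_le_Inter : RB F ≤ Inter hgood F ([0].map ki) := by
  rw [RB, Subgroup.closure_le]
  rintro _ ⟨r, hr, t, rfl⟩
  have hr' : r < 12 ∧ 6 ≤ r := by simp only [List.mem_cons, List.not_mem_nil, or_false] at hr; omega
  have hlt : ∀ i ∈ [0], i < 2 := by simp
  have hw : ((T F).wl ([0].map ki))⁻¹ ⟨r, lt12 hr'.1⟩ = (T F).wl ([0].map ki) ⟨r, lt12 hr'.1⟩ := by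
    rw [Equiv.Perm.inv_eq_iff_eq]
    exact Fin.ext (by rw [val_wl [0] hlt, val_wl [0] hlt]; exact (reg_facts.2.2 r hr'.1).symm)
  refine xe_mem_Inter hgood hf ⟨lt12 hr'.1, by rw [G2OddInvol.hn]; omega, ?_⟩ t
  show chevG2.nroots / 2 ≤ (((T F).wl ([0].map ki))⁻¹ ⟨r, lt12 hr'.1⟩).val
  rw [hw, val_wl [0] hlt, show chevG2.nroots / 2 = 6 by rw [G2OddInvol.hn]]
  exact reg_facts.1 r hr'.1 hr

section Finite

variable [Fintype F]

theorem xg7_RB {c : F} (h : xg chevG2 F 7 c ∈ RB F) : c = 0 := by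
  by_contra hc
  have hlt : ∀ i ∈ [0], i < 2 := by simp
  rw [← xe_eq] at h
  obtain ⟨hr, -, hp⟩ := Keep_of_Lead hgood hf negTri_chevG2 (RB_le_Inter h)
    (Lead_xe hgood hf (lt12 (by norm_num : (7 : ℕ) < 12)) (by rw [G2OddInvol.hn]; norm_num) hc)
  have hw : ((T F).wl ([0].map ki))⁻¹ ⟨7, hr⟩ = (T F).wl ([0].map ki) ⟨7, hr⟩ := by
    rw [Equiv.Perm.inv_eq_iff_eq]
    exact Fin.ext (by rw [val_wl [0] hlt, val_wl [0] hlt]; exact (reg_facts.2.2 7 (by norm_num)).symm)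
  change chevG2.nroots / 2 ≤ (((T F).wl ([0].map ki))⁻¹ ⟨7, hr⟩).val at hp
  rw [hw, val_wl [0] hlt, show chevG2.nroots / 2 = 6 by rw [G2OddInvol.hn]] at hp
  exact reg_facts.2.1 hp

omit [Fintype F] in
theorem xg6_RA {c : F} (h : xg chevG2 F 6 c ∈ Uge hgood F 7) : c = 0 := by
  rw [← xe_eq] at h
  exact Uge_xe_eq_zero hgood hf (lt12 (by norm_num)) (by rw [G2OddInvol.hn]) h

/-- An element of `U` whose conjugate by a nontrivial Weyl representative lies in `U` is in a radical. -/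
theorem mem_radical_of_conj {l : List ℕ} (hl : l ∈ words) {s : ℕ} (hs : s < 12) (hne : wn l s ≠ s)
    {x : GL chevG2.Idx F} (hx : x ∈ chevG2.posUnipotent F)
    (hy : (T F).nw (l.map ki) * x * ((T F).nw (l.map ki))⁻¹ ∈ chevG2.posUnipotent F) :
    x ∈ Uge hgood F 7 ∨ x ∈ RB F := by
  set n := (T F).nw (l.map ki) with hn
  have hU : (data hgood F).U = chevG2.posUnipotent F := data_U hgood hf
  have hI : n * x * n⁻¹ ∈ Inter hgood F (l.map ki) := (mem_Inter hgood).2 ⟨by rw [hU]; exact hy, by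
    rw [hU, show ((data hgood F).nw (l.map ki))⁻¹ * (n * x * n⁻¹) * (data hgood F).nw (l.map ki) = x by
      rw [hn]; group]
    exact hx⟩
  obtain ⟨t, ht, e⟩ := exists_prodFrom_Inter hgood hf negTri_chevG2 _ hI
  obtain ⟨i, hi, hii⟩ : ∃ i ∈ [(7 : ℕ), 6], wn l i < 6 := by
    by_contra h
    push Not at h
    exact hne (both_pos l hl (h 7 (by simp)) (h 6 (by simp)) s hs)
  suffices key : ∀ S : Subgroup (GL chevG2.Idx F),
      (∀ j < 12, 6 ≤ j → j ≠ i → ∀ v, xe hgood j v ∈ S) → x ∈ S by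
    simp only [List.mem_cons, List.not_mem_nil, or_false] at hi
    rcases hi with rfl | rfl
    · exact Or.inr (key _ fun j hj h6 hne v => Subgroup.subset_closure
        ⟨j, by simp only [List.mem_cons, List.not_mem_nil, or_false]; omega, v, rfl⟩)
    · exact Or.inl (key _ fun j hj h6 hne v => xe_mem_Uge hgood (lt12 hj) (by omega) v)
  intro S hS
  suffices n * x * n⁻¹ ∈ S.comap (MulAut.conj n⁻¹).toMonoidHom by
    change n⁻¹ * (n * x * n⁻¹) * n⁻¹⁻¹ ∈ S at this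
    simpa [mul_assoc] using this
  rw [e]
  refine prodFrom_mem_of hgood (by rw [G2OddInvol.hn]) fun r _ _ hr0 => ?_
  obtain ⟨hr, hr', hp⟩ := ht r hr0
  set j := ((T F).wl (l.map ki))⁻¹ ⟨r, hr⟩ with hj
  have hwj : wn l j.val = r := by
    rw [← val_wl (F := F) l (words_lt l hl), hj, Equiv.Perm.inv_def, Equiv.apply_symm_apply]
  have hm := ((RootBN.Data.acts_nw (ax F) (l.map ki)).inv ⟨r, hr⟩ (xe hgood r (t r))).2
    ((mem_rootSubgroup hgood hr).2 ⟨t r, rfl⟩)
  rw [inv_inv] at hm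
  obtain ⟨v, hv⟩ := (mem_rootSubgroup hgood j.2).1 hm
  show n⁻¹ * xe hgood r (t r) * n⁻¹⁻¹ ∈ S
  rw [inv_inv, hn, hv]
  have h6 : 6 ≤ j.val := by
    change chevG2.nroots / 2 ≤ j.val at hp
    rwa [show chevG2.nroots / 2 = 6 by rw [G2OddInvol.hn]] at hp
  refine hS _ (lt_of_lt_of_eq j.2 G2OddInvol.hn) h6 (fun e' => ?_) v
  rw [e'] at hwj
  rw [G2OddInvol.hn] at hr'
  omega

theorem borel_of_commute {u : GL chevG2.Idx F} (hu : u ∈ chevG2.posUnipotent F) (hA : u ∉ Uge hgood F 7)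
    (hB : u ∉ RB F) {g : GL chevG2.Idx F} (hg : g ∈ chevG2.group F) (hc : g * u = u * g) :
    g ∈ chevG2.borelSubgroup F := by
  obtain ⟨hex, -⟩ := bruhat_normal_form (F := F) hgood hf negTri_chevG2
  obtain ⟨b, hb, n, hn, v, hv, rfl⟩ := hex g hg
  have hvU : v ∈ chevG2.posUnipotent F := by
    refine (show Subgroup.closure (negSet F chevG2 n) ≤ chevG2.posUnipotent F from ?_) hv
    rw [Subgroup.closure_le]
    rintro x ⟨r, s, hr, -, hx⟩
    exact Subgroup.subset_closure ⟨r, s, hr, hx⟩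
  have hvB : v ∈ chevG2.borelSubgroup F := Subgroup.mem_sup_left hvU
  obtain ⟨h, hh, l, hl, rfl⟩ := exists_normal ((data_N hgood hf).ge hn)
  by_cases hid : ∀ s < 12, wn l s = s
  · refine mul_mem (mul_mem hb (mul_mem ((Subgroup.mem_sup_right : h ∈ chevG2.diagonalSubgroup F → _) hh)
      (Subgroup.mem_sup_right ?_))) hvB
    exact nw_mem_H fun r => Fin.ext (by rw [val_wl l (words_lt l hl)]; exact hid _ (lt_of_lt_of_eq r.2 G2OddInvol.hn))
  exfalso
  push Not at hid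
  obtain ⟨s, hs, hne⟩ := hid
  have hx : v * u * v⁻¹ ∈ chevG2.posUnipotent F := U_conj hvB hu
  have hy : (T F).nw (l.map ki) * (v * u * v⁻¹) * ((T F).nw (l.map ki))⁻¹ ∈ chevG2.posUnipotent F := by
    have e : (T F).nw (l.map ki) * (v * u * v⁻¹) * ((T F).nw (l.map ki))⁻¹ = (b * h)⁻¹ * u * ((b * h)⁻¹)⁻¹ :=
      calc _ = (b * h)⁻¹ * ((b * (h * (T F).nw (l.map ki)) * v) * u) *
            (b * (h * (T F).nw (l.map ki)) * v)⁻¹ * (b * h) := by group
        _ = _ := by rw [hc]; group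
    rw [e]
    exact U_conj (inv_mem (mul_mem hb ((Subgroup.mem_sup_right : h ∈ chevG2.diagonalSubgroup F → _) hh))) hu
  have hinv : v⁻¹ ∈ chevG2.borelSubgroup F := inv_mem hvB
  rcases mem_radical_of_conj hl hs hne hx hy with h' | h'
  · exact hA (by simpa [mul_assoc] using RA_conj hinv h')
  · exact hB (by simpa [mul_assoc] using RB_conj hinv h')

variable (p : ℕ) [Fact p.Prime] [CharP F p]

/-- A regular unipotent element commutes with no nontrivial element of order prime to `p`. -/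
theorem eq_one_of_commute_regular_unipotent {u : GL chevG2.Idx F} (hu : u ∈ chevG2.posUnipotent F)
    (hA : u ∉ Uge hgood F 7) (hB : u ∉ RB F) {g : GL chevG2.Idx F} (hg : g ∈ chevG2.group F)
    (hc : g * u = u * g) (hp : ¬ p ∣ orderOf g) : g = 1 := by
  obtain ⟨v, hv, h, hh, rfl⟩ := borel_decomp hgood hf (borel_of_commute hu hA hB hg hc)
  suffices key : ∀ (i : ℕ) (hi : i < 12) (R : Subgroup (GL chevG2.Idx F)),
      (∀ b ∈ chevG2.borelSubgroup F, ∀ x ∈ R, b * x * b⁻¹ ∈ R) → 6 ≤ i →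
      (∀ w ∈ chevG2.posUnipotent F, ∃ c : F, ∃ r ∈ R, w = xg chevG2 F i c * r) →
      (∀ c : F, xg chevG2 F i c ∈ R → c = 0) → u ∉ R → chi h (rt i hi) = 1 by
    have h7 := key 7 (by norm_num) (RB F) (fun b hb x hx => RB_conj hb hx) (by norm_num) (fun w hw => decompB hw)
      (fun c hc => xg7_RB hc) hB
    have h6 := key 6 (by norm_num) (Uge hgood F 7) (fun b hb x hx => RA_conj hb hx) le_rfl
      (fun w hw => decompA hw) (fun c hc => xg6_RA hc) hA
    obtain rfl := eq_one_of_simple hh h7 h6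
    rw [mul_one] at hp hc ⊢
    obtain ⟨j, hj⟩ := (IsPGroup.iff_orderOf.1 (ChevSylow.isPGroup_posUnipotent p hgood hf (F := F))) ⟨v, hv⟩
    rw [Subgroup.orderOf_mk] at hj
    rcases j with _ | j
    · rwa [pow_zero, orderOf_eq_one_iff] at hj
    · exact absurd (hj ▸ dvd_pow_self p j.succ_ne_zero) hp
  intro i hi R hR hi6 hdec hzero huR
  set c := chi h (rt i hi)
  obtain ⟨a, r, hr, e⟩ := hdec u hu
  obtain ⟨d, r', hr', e'⟩ := hdec v hv
  have hha : h * xg chevG2 F i a * h⁻¹ = xg chevG2 F i (c * a) := conj_xg hh hi a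
  have hhB : h ∈ chevG2.borelSubgroup F := Subgroup.mem_sup_right hh
  have hxB : ∀ z : F, xg chevG2 F i z ∈ chevG2.borelSubgroup F := fun z => Subgroup.mem_sup_left (xg_mem_U hi hi6 z)
  set r'' := h * r * h⁻¹ with hr''
  set X := (xg chevG2 F i (c * a))⁻¹ * r' * ((xg chevG2 F i (c * a))⁻¹)⁻¹ * r'' * r'⁻¹ with hXdef
  have hX : X ∈ R := mul_mem (mul_mem (hR _ (inv_mem (hxB _)) _ hr') (hR h hhB r hr)) (inv_mem hr')
  have e3 : u = xg chevG2 F i (c * a) * (xg chevG2 F i d * X * (xg chevG2 F i d)⁻¹) := by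
    have hu' : u = v * h * u * (v * h)⁻¹ := by rw [hc, mul_inv_cancel_right]
    have hcomm : xg chevG2 F i d * xg chevG2 F i (c * a) = xg chevG2 F i (c * a) * xg chevG2 F i d := by
      rw [hgood.xg_add, hgood.xg_add, add_comm]
    conv_lhs => rw [hu', e, e']
    rw [← mul_assoc (xg chevG2 F i (c * a)) (xg chevG2 F i d * X), ← mul_assoc (xg chevG2 F i (c * a)), ← hcomm,
      hXdef, hr'', ← hha]
    group
  have hz : xg chevG2 F i (a - c * a) ∈ R := by
    rw [sub_eq_neg_add, ← hgood.xg_add, ← hgood.xg_inv,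
      show (xg chevG2 F i (c * a))⁻¹ * xg chevG2 F i a = (xg chevG2 F i d * X * (xg chevG2 F i d)⁻¹) * r⁻¹ by
        rw [eq_mul_inv_iff_mul_eq, mul_assoc, ← e, e3, inv_mul_cancel_left]]
    exact mul_mem (hR _ (hxB d) _ hX) (inv_mem hr)
  have h1 : (1 - c) * a = 0 := by linear_combination hzero _ hz
  rcases mul_eq_zero.1 h1 with h' | h'
  · exact (sub_eq_zero.1 h').symm
  · exact absurd (by rw [e, h', hgood.xg_zero, one_mul]; exact hr) huR

/-- A `p`-element commuting with a nontrivial element of order prime to `p` is conjugate into a radical. -/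
theorem mem_radical_of_commute {u g : GL chevG2.Idx F} (hu : u ∈ chevG2.group F) {j : ℕ} (huj : u ^ p ^ j = 1)
    (hg : g ∈ chevG2.group F) (hc : g * u = u * g) (hp : ¬ p ∣ orderOf g) (hg1 : g ≠ 1) :
    ∃ a ∈ chevG2.group F, a * u * a⁻¹ ∈ Uge hgood F 7 ∨ a * u * a⁻¹ ∈ RB F := by
  obtain ⟨P, hP⟩ := ChevSylow.exists_sylow p hgood hf (F := F)
  obtain ⟨⟨a, ha⟩, hau⟩ := exists_conj_mem_of_index p (P : Subgroup (chevG2.group F)) P.not_dvd_index
    (x := ⟨u, hu⟩) (j := j) (Subtype.ext huj)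
  rw [hP, Subgroup.mem_subgroupOf] at hau
  refine ⟨a, ha, or_iff_not_imp_left.2 fun hA => by_contra fun hB => hg1 ?_⟩
  have e : a * g * a⁻¹ = 1 := eq_one_of_commute_regular_unipotent p hau hA hB
    (mul_mem (mul_mem ha hg) (inv_mem ha))
    (show a * g * a⁻¹ * (a * u * a⁻¹) = a * u * a⁻¹ * (a * g * a⁻¹) by rw [conj_mul, conj_mul, hc])
    (by rwa [show a * g * a⁻¹ = MulAut.conj a g from rfl, MulEquiv.orderOf_eq])
  exact conj_eq_one_iff.1 e

end Finite

end Cfsg.Agent.G2Spectrum
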