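import Cfsg.Agent.Lib.G2Spectrum.WitnessData
import Cfsg.Agent.Lib.Chev.CheckG2
import Cfsg.Agent.Lib.Chev.FieldAutFixed

/-!
# Checks for elements of `G₂(p)` of orders 8, 9, 25 and 12
-/

set_option autoImplicit false
set_option maxRecDepth 100000
set_option maxHeartbeats 1000000

namespace Cfsg.Agent.G2Spectrum

open Cfsg.Lie

instance fact_five : Fact (Nat.Prime 5) := ⟨Nat.prime_five⟩

/-- The number of a coordinate. -/
def idxNat : chevG2.Idx → ℕ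
  | .inl i => i.val
  | .inr s => 2 + s.val

/-- The matrix of a table. -/
def tab (p n : ℕ) : Matrix chevG2.Idx chevG2.Idx (ZMod p) :=
  Matrix.of fun i j => (((n >>> (3 * (14 * idxNat i + idxNat j))) &&& 7 : ℕ) : ZMod p)

/-- The product of root elements with parameter one. -/
def wordOne (p : ℕ) [Fact p.Prime] (w : List ℕ) : Matrix chevG2.Idx chevG2.Idx (ZMod p) :=
  (w.map fun r => chevG2.x (ZMod p) r 1).prod

theorem check_two : wordOne 2 [7, 6] = tab 2 u2_1 ∧ tab 2 u2_1 * tab 2 u2_1 = tab 2 u2_2 ∧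
    tab 2 u2_2 * tab 2 u2_2 = tab 2 u2_4 ∧ tab 2 u2_4 ≠ 1 := by decide +kernel

theorem check_three : wordOne 3 [7, 6] = tab 3 u3_1 ∧ tab 3 u3_1 * tab 3 u3_1 = tab 3 u3_2 ∧
    tab 3 u3_2 * tab 3 u3_1 = tab 3 u3_3 ∧ tab 3 u3_3 ≠ 1 := by decide +kernel

theorem check_five : wordOne 5 [7, 6] = tab 5 u5_1 ∧ tab 5 u5_1 * tab 5 u5_1 = tab 5 u5_2 ∧
    tab 5 u5_2 * tab 5 u5_2 = tab 5 u5_4 ∧ tab 5 u5_4 * tab 5 u5_1 = tab 5 u5_5 ∧ tab 5 u5_5 ≠ 1 := by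
  decide +kernel

theorem check_twelve : wordOne 2 [0, 2, 9] = tab 2 g12_1 ∧ tab 2 g12_1 * tab 2 g12_1 = tab 2 g12_2 ∧
    tab 2 g12_2 * tab 2 g12_1 = tab 2 g12_3 ∧ tab 2 g12_2 * tab 2 g12_2 = tab 2 g12_4 ∧
    tab 2 g12_3 * tab 2 g12_3 = tab 2 g12_6 ∧ tab 2 g12_6 * tab 2 g12_6 = tab 2 g12_12 ∧
    tab 2 g12_12 = 1 ∧ tab 2 g12_4 ≠ 1 ∧ tab 2 g12_6 ≠ 1 := by decide +kernel

end Cfsg.Agent.G2Spectrum
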