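import Cfsg.Agent.Lib.G2Spectrum.Weyl
import Cfsg.Agent.Lib.G2Spectrum.Conj

/-!
# The torus of `G₂`: root values in simple coordinates

`chi_eq_val`: every root value from the values on the two simple roots.
`mem_H_of_regular`: a Weyl representative fixing a regular element lies in the torus.
-/

set_option autoImplicit false

namespace Cfsg.Agent.G2Spectrum

open Cfsg.Lie Cfsg.Agent.Chev Cfsg.Agent.Chev.BNSetup Cfsg.Agent.G2OddInvol Cfsg.Agent.LangSteinberg

variable {F : Type*} [Field F]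

/-- The root with index `r`. -/
def rt (r : ℕ) (hr : r < 12) : Fin chevG2.nroots := ⟨r, lt12 hr⟩

/-- The value on a root as a unit. -/
noncomputable def cu {t : GL chevG2.Idx F} (ht : t ∈ chevG2.diagonalSubgroup F) (r : Fin chevG2.nroots) : Fˣ :=
  Units.mk0 (chi t r) (chi_ne_zero hgood ht r)

theorem chi_eq_val {t : GL chevG2.Idx F} (ht : t ∈ chevG2.diagonalSubgroup F) (r : Fin chevG2.nroots) :
    chi t r = (val (cu ht (rt 7 (by norm_num))) (cu ht (rt 6 (by norm_num))) r.val : Fˣ) := by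
  let g : ℕ → F := fun i => (if i = 0 then chi t (rt 7 (by norm_num)) else chi t (rt 6 (by norm_num))) ^ cdG2 r.val i
  rw [chi_eq_zprod hgood cdG2 (fun i hi s hs => coordsG2.sum_eq hi hs) ht r,
    Finset.prod_congr rfl (g := fun j : Fin chevG2.rank => g j.val) (fun j _ => by
      have hj : j.val < 2 := lt_of_lt_of_eq j.2 G2OddInvol.hk
      rcases (by omega : j.val = 0 ∨ j.val = 1) with e | e
      · simp [g, rt, e, simple_val]
      · simp [g, rt, e, simple_val]),
    Fin.prod_univ_eq_prod_range g chevG2.rank, G2OddInvol.hk]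
  simp [g, Finset.prod_range_succ, val, cu]

theorem cu_eq_val {t : GL chevG2.Idx F} (ht : t ∈ chevG2.diagonalSubgroup F) (r : Fin chevG2.nroots) :
    cu ht r = val (cu ht (rt 7 (by norm_num))) (cu ht (rt 6 (by norm_num))) r.val :=
  Units.ext (chi_eq_val ht r)

theorem chi_neg {t : GL chevG2.Idx F} (ht : t ∈ chevG2.diagonalSubgroup F) {r s : Fin chevG2.nroots}
    (h : s.val = 11 - r.val) : chi t s = (chi t r)⁻¹ := by
  have hr : r.val < 12 := lt_of_lt_of_eq r.2 G2OddInvol.hn
  rw [chi_eq_val ht, chi_eq_val ht, h, val, val, cd_neg _ hr 0 (by norm_num), cd_neg _ hr 1 (by norm_num),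
    zpow_neg, zpow_neg, ← mul_inv, Units.val_inv_eq_inv_val]

/-- Powers of torus elements in simple coordinates. -/
theorem pow_eq_one_iff' {t : GL chevG2.Idx F} (ht : t ∈ chevG2.diagonalSubgroup F) (n : ℕ) :
    t ^ n = 1 ↔ chi t (rt 7 (by norm_num)) ^ n = 1 ∧ chi t (rt 6 (by norm_num)) ^ n = 1 := by
  constructor
  · intro h
    constructor <;> rw [← chi_pow hgood ht, h, chi_one]
  · rintro ⟨h7, h6⟩
    refine diagonal_ext hgood (pow_mem ht n) (one_mem _) fun r => ?_
    rw [chi_one, chi_eq_val (pow_mem ht n), val]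
    have e : ∀ s, chi t s ^ n = 1 → cu (pow_mem ht n) s = 1 := fun s hs => Units.ext (by
      show chi (t ^ n) s = 1
      rw [chi_pow hgood ht, hs])
    rw [e _ h7, e _ h6, one_zpow, one_zpow, one_mul, Units.val_one]

theorem eq_one_of_simple {t : GL chevG2.Idx F} (ht : t ∈ chevG2.diagonalSubgroup F)
    (h7 : chi t (rt 7 (by norm_num)) = 1) (h6 : chi t (rt 6 (by norm_num)) = 1) : t = 1 := by
  rw [← pow_one t]
  exact (pow_eq_one_iff' ht 1).2 ⟨by rw [pow_one, h7], by rw [pow_one, h6]⟩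

theorem orderOf_dvd_val {t : GL chevG2.Idx F} (ht : t ∈ chevG2.diagonalSubgroup F) {N : ℤ}
    (hx : cu ht (rt 7 (by norm_num)) ^ N = 1) (hy : cu ht (rt 6 (by norm_num)) ^ N = 1) :
    (orderOf t : ℤ) ∣ N := by
  have key : ∀ {z : Fˣ}, z ^ N = 1 → z ^ N.natAbs = 1 := fun {z} h => by
    rcases Int.natAbs_eq N with e | e <;> rw [e] at h
    · rwa [zpow_natCast] at h
    · rwa [zpow_neg, inv_eq_one, zpow_natCast] at h
  refine Int.natCast_dvd.2 (orderOf_dvd_of_pow_eq_one ((pow_eq_one_iff' ht _).2 ⟨?_, ?_⟩))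
  · exact (Units.val_pow_eq_pow_val (cu ht _) _).symm.trans (congrArg Units.val (key hx))
  · exact (Units.val_pow_eq_pow_val (cu ht _) _).symm.trans (congrArg Units.val (key hy))

/-- A Weyl word in the standard list with the same action. -/
theorem exists_word_wl (L : List (Fin chevG2.rank)) :
    ∃ l ∈ words, ((data hgood F).wl L) = (data hgood F).wl (l.map ki) := by
  induction L with
  | nil => exact ⟨[], by simp [words, low], rfl⟩
  | cons j L ih =>
    obtain ⟨l', hl', e⟩ := ih
    have hj2 : j.val < 2 := lt_of_lt_of_eq j.2 G2OddInvol.hk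
    obtain ⟨l'', hl'', e''⟩ := words_closed j.val hj2 l' hl'
    have hlt : ∀ i ∈ j.val :: l', i < 2 := by
      intro i hi; rcases List.mem_cons.1 hi with rfl | hi
      exacts [hj2, words_lt l' hl' i hi]
    refine ⟨l'', hl'', ?_⟩
    rw [← wl_eq (F := F) hlt (words_lt l'' hl'') e'', List.map_cons, RootBN.Data.wl_cons, RootBN.Data.wl_cons, e,
      show ki j.val = j from Fin.ext (Nat.mod_eq_of_lt hj2)]

/-- A word with trivial action gives a torus element. -/
theorem nw_mem_H {L : List (Fin chevG2.rank)} (h : ∀ r, (data hgood F).wl L r = r) :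
    (data hgood F).nw L ∈ chevG2.diagonalSubgroup F :=
  RootBN.Data.mem_H_of_pos_preserving (axioms hgood hf) (RootBN.Data.nw_mem_N L)
    (RootBN.Data.acts_nw (axioms hgood hf) L) fun r hr => by rwa [h r]

theorem mem_H_of_regular {t : GL chevG2.Idx F} (ht : t ∈ chevG2.diagonalSubgroup F) (hreg : ∀ r, chi t r ≠ 1)
    {L : List (Fin chevG2.rank)} (h : ∀ r, chi t ((data hgood F).wl L r) = chi t r) :
    (data hgood F).nw L ∈ chevG2.diagonalSubgroup F := by
  obtain ⟨l, hl, e⟩ := exists_word_wl (F := F) L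
  refine nw_mem_H fun r => Fin.ext ?_
  rw [e, val_wl l (words_lt l hl)]
  refine fixed_regular (cu ht (rt 7 (by norm_num))) (cu ht (rt 6 (by norm_num))) hl (fun s hs => ?_)
    (fun s hs h1 => hreg ⟨s, lt12 hs⟩ ?_) r.val (lt_of_lt_of_eq r.2 G2OddInvol.hn)
  · refine Units.ext ?_
    have := h ⟨s, lt12 hs⟩
    rwa [chi_eq_val ht, chi_eq_val ht, e, val_wl l (words_lt l hl)] at this
  · rw [chi_eq_val ht]; exact congrArg Units.val h1

end Cfsg.Agent.G2Spectrum
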