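import Cfsg.Agent.Lib.G2OddInvol.Centralizer
import Cfsg.Agent.Lib.Chev.Sylow
import Cfsg.Agent.Lib.Chev.UnipotentInter

/-!
# Exponents of the unipotent radicals of `G₂`

`pow_eq_one_of_level`: elements of `U` raising a level function, to a large `p`-power, are trivial.
-/

set_option autoImplicit false

namespace Cfsg.Agent.G2Spectrum

open Cfsg.Lie Cfsg.Agent.Chev Cfsg.Agent.Chev.BNSetup Cfsg.Agent.G2OddInvol

variable {F : Type*} [Field F]

/-- The checkable level property of a single root. -/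
def LevelAt (w : List ℕ) (c r : ℕ) : Prop :=
  c < w.getD r 0 ∧ w.getD (chevG2.negIdx.getD r 0) 0 < c ∧
    ∀ e ∈ (chevG2.chain.getD r #[]).toList, ∀ q ∈ e.2.toList, w.getD e.1 0 < w.getD q.1 0

instance (w : List ℕ) (c r : ℕ) : Decidable (LevelAt w c r) :=
  inferInstanceAs (Decidable (_ ∧ _ ∧ _))

theorem xe_mem_unitri {w : List ℕ} {c r : ℕ} (h : LevelAt w c r) (hr : r < chevG2.nroots) (t : F) :
    xe hgood r t ∈ unitri F (ChevSylow.lev chevG2 w c) 0 := by
  obtain ⟨h1, h2, hc⟩ := h
  have hnil : ∀ s u : ℕ, w.getD u 0 ≤ w.getD s 0 → chevG2.chainCoeff r s u = [] := by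
    intro s u hsu
    rw [ChevalleyDatum.chainCoeff, List.flatMap_eq_nil_iff]
    intro e he
    rw [List.map_eq_nil_iff, List.filter_eq_nil_iff]
    intro q hq
    obtain ⟨he1, he2⟩ := List.mem_filter.1 he
    have := hc e he1 q.1 (by
      obtain ⟨q1, q2⟩ := q
      exact List.fst_mem_of_mem_zipIdx hq)
    simp only [decide_eq_true_eq] at he2 ⊢
    intro hqu
    rw [he2, hqu] at this
    omega
  rw [mem_unitri, coe_xe, ChevalleyDatum.x, dif_pos hr]
  intro row col hlt
  rw [Matrix.sub_apply, sub_eq_zero]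
  simp only [ChevalleyDatum.xMat, Matrix.of_apply]
  rcases col with i | s
  · rcases row with i' | u
    · simp only [Matrix.one_apply, Sum.inl.injEq]
    · rw [Matrix.one_apply_ne (by simp)]
      refine if_neg ?_
      rintro rfl
      simp only [ChevSylow.lev, Sum.elim_inl, Sum.elim_inr] at hlt
      omega
  · simp only
    by_cases hsr : s = ⟨r, hr⟩
    · subst hsr
      rcases row with i' | u
      · simp [Matrix.one_apply]
      · simp [Matrix.one_apply]
    rw [if_neg hsr]
    by_cases hsn : s.val = chevG2.negIdx.getD r 0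
    · rw [if_pos hsn]
      rw [← hsn] at h2
      rcases row with i' | u
      · exfalso
        simp only [ChevSylow.lev, Sum.elim_inl, Sum.elim_inr] at hlt
        omega
      · simp only [Matrix.one_apply, Sum.inr.injEq]
        by_cases hus : u = s
        · simp [hus]
        · rw [if_neg hus, if_neg hus]
          refine if_neg ?_
          rintro rfl
          simp only [ChevSylow.lev, Sum.elim_inr] at hlt
          omega
    · rw [if_neg hsn]
      rcases row with i' | u
      · simp [Matrix.one_apply]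
      · simp only [Matrix.one_apply, Sum.inr.injEq]
        simp only [ChevSylow.lev, Sum.elim_inr] at hlt
        simp [hnil s.val u.val (by omega)]

/-- An element of `U` raising the level by more than any rise from a negative root to zero is trivial. -/
theorem eq_one_of_raises {w : List ℕ} {c n : ℕ} (hn : ∀ s < 12, c < w.getD s 0 + n)
    {v : GL chevG2.Idx F} (hv : v ∈ chevG2.posUnipotent F)
    (h : Raises (ChevSylow.lev chevG2 w c) n ((v : Matrix chevG2.Idx chevG2.Idx F) - 1)) : v = 1 := by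
  rw [← Uge_eq_U hgood hf] at hv
  have hN : chevG2.nroots = 12 := G2OddInvol.hn
  suffices key : ∀ m k, k + m = chevG2.nroots → chevG2.nroots / 2 ≤ k → v ∈ Uge hgood F k → v = 1 from
    key (chevG2.nroots / 2) (chevG2.nroots / 2) (by omega) le_rfl hv
  intro m
  induction m with
  | zero =>
    intro k hk _ hvk
    rwa [Uge_top hgood (by omega), Subgroup.mem_bot] at hvk
  | succ m ih =>
    intro k hk hk' hvk
    obtain ⟨t, v', hv', e⟩ := Uge_split hgood hf (by omega : k < chevG2.nroots) hk' hvk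
    suffices ht : t = 0 by
      subst ht
      rw [xe_zero hgood (by omega), one_mul] at e
      exact ih (k + 1) (by omega) (by omega) (e ▸ hv')
    obtain ⟨i, hi⟩ := exists_coroot_ne_zero (F := F) hf (by omega : k < chevG2.nroots)
    set s : Fin chevG2.nroots := ⟨chevG2.neg k, hgood.neg_lt (by omega)⟩ with hs
    have hneg : chevG2.neg k = chevG2.nroots - 1 - k := neg_eq hf (by omega)
    have h0 : (v : Matrix chevG2.Idx chevG2.Idx F) (Sum.inl i) (Sum.inr s) = 0 := by
      have := h (Sum.inl i) (Sum.inr s) (by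
        simp only [ChevSylow.lev, Sum.elim_inl, Sum.elim_inr]
        exact hn _ (by rw [← hN]; exact s.2))
      rwa [Matrix.sub_apply, Matrix.one_apply_ne (by simp), sub_zero] at this
    rw [e, Units.val_mul, Matrix.mul_apply, Finset.sum_eq_single (Sum.inr s)] at h0
    · have h1 : (v' : Matrix chevG2.Idx chevG2.Idx F) (Sum.inr s) (Sum.inr s) = 1 := by
        have hU : v' ∈ chevG2.posUnipotent F := by
          rw [← Uge_eq_U hgood hf]; exact Uge_anti hgood (by omega) hv'
        have := raises_unitri hf hU (Sum.inr s) (Sum.inr s) (by omega)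
        rwa [Matrix.sub_apply, Matrix.one_apply_eq, sub_eq_zero] at this
      rw [h1, mul_one, coe_xe, x_entry_inl (by omega) s.2, if_neg (hgood.neg_ne (by omega)), if_pos rfl] at h0
      exact (mul_eq_zero.1 h0).resolve_left hi
    · intro j _ hj
      rcases j with j | j
      · rw [Uge_entry hgood hf hk' hv' j s hneg.ge, mul_zero]
      · rw [coe_xe, x_entry_inl (by omega) j.2]
        split_ifs with h1 h2
        · rw [zero_mul]
        · exact absurd (congrArg Sum.inr (Fin.ext h2 : j = s)) hj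
        · rw [zero_mul]
    · intro hns; exact absurd (Finset.mem_univ _) hns

variable (p : ℕ) [Fact p.Prime] [CharP F p]

theorem pow_eq_one_of_level {w : List ℕ} {c j : ℕ} (hn : ∀ s < 12, c < w.getD s 0 + p ^ j)
    {u : GL chevG2.Idx F} (hu : u ∈ chevG2.posUnipotent F)
    (h : u ∈ unitri F (ChevSylow.lev chevG2 w c) 0) : u ^ p ^ j = 1 := by
  refine eq_one_of_raises hn (pow_mem hu _) ?_
  rw [Units.val_pow_eq_pow_val]
  have : Nonempty chevG2.Idx := ⟨Sum.inl ⟨0, by decide⟩⟩
  have e : ((u : Matrix chevG2.Idx chevG2.Idx F) - 1) ^ p ^ j =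
      (u : Matrix chevG2.Idx chevG2.Idx F) ^ p ^ j - 1 := by
    rw [sub_pow_char_pow_of_commute _ _ (Commute.one_right _), one_pow]
  rw [← e]
  have := Raises.pow (k := 1) h (p ^ j)
  rwa [mul_one] at this

/-- The height level. -/
def wH : List ℕ := [0, 1, 2, 3, 4, 4, 6, 6, 7, 8, 9, 10]

/-- The level of the coefficient of the short simple root. -/
def wA : List ℕ := [0, 0, 1, 2, 2, 3, 3, 4, 4, 5, 6, 6]

/-- The level of the coefficient of the long simple root. -/
def wB : List ℕ := [0, 1, 1, 1, 2, 1, 3, 2, 3, 3, 3, 4]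

/-- The radical with trivial short simple coordinate. -/
def RB (F : Type*) [Field F] : Subgroup (GL chevG2.Idx F) :=
  Subgroup.closure {g | ∃ r ∈ [6, 8, 9, 10, 11], ∃ t : F, g = xe hgood r t}

theorem levels : (∀ r < 12, 6 ≤ r → LevelAt wH 5 r) ∧ (∀ r < 12, 7 ≤ r → LevelAt wA 3 r) ∧
    (∀ r ∈ [6, 8, 9, 10, 11], LevelAt wB 2 r) := by
  decide +kernel

theorem rise_H : ∀ s < 12, 5 ≤ wH.getD s 0 + 5 := by decide +kernel
theorem rise_A : ∀ s < 12, 3 ≤ wA.getD s 0 + 3 := by decide +kernel
theorem rise_B : ∀ s < 12, 2 ≤ wB.getD s 0 + 2 := by decide +kernel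

omit [Fact p.Prime] [CharP F p] in
theorem Uge_le_unitri {w : List ℕ} {c k : ℕ} (h : ∀ r < 12, k ≤ r → LevelAt w c r) :
    Uge hgood F k ≤ unitri F (ChevSylow.lev chevG2 w c) 0 := by
  rw [Uge, Subgroup.closure_le]
  rintro _ ⟨r, t, hr, hkr, rfl⟩
  exact xe_mem_unitri (h r (G2OddInvol.hn ▸ hr) hkr) hr t

theorem pow_U {j : ℕ} (hj : 6 ≤ p ^ j) {u : GL chevG2.Idx F} (hu : u ∈ chevG2.posUnipotent F) :
    u ^ p ^ j = 1 :=
  pow_eq_one_of_level p (fun s hs => by have := rise_H s hs; omega) hu
    (Uge_le_unitri (k := chevG2.nroots / 2) (F := F) (fun r hr h => levels.1 r hr (by rw [G2OddInvol.hn] at h; omega))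
      (by rw [Uge_eq_U hgood hf]; exact hu))

theorem pow_RA {j : ℕ} (hj : 4 ≤ p ^ j) {u : GL chevG2.Idx F} (hu : u ∈ Uge hgood F 7) : u ^ p ^ j = 1 :=
  pow_eq_one_of_level p (fun s hs => by have := rise_A s hs; omega)
    (by rw [← Uge_eq_U hgood hf]; exact Uge_anti hgood (by rw [G2OddInvol.hn]; norm_num) hu)
    (Uge_le_unitri (k := 7) levels.2.1 hu)

omit [Fact p.Prime] [CharP F p] in
theorem RB_le_U : RB F ≤ chevG2.posUnipotent F := by
  rw [← Uge_eq_U hgood hf, RB, Subgroup.closure_le]
  rintro _ ⟨r, hr, t, rfl⟩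
  simp only [List.mem_cons, List.not_mem_nil, or_false] at hr
  exact xe_mem_Uge hgood (by rw [G2OddInvol.hn]; omega) (by rw [G2OddInvol.hn]; omega) t

theorem pow_RB {j : ℕ} (hj : 3 ≤ p ^ j) {u : GL chevG2.Idx F} (hu : u ∈ RB F) : u ^ p ^ j = 1 := by
  refine pow_eq_one_of_level p (fun s hs => by have := rise_B s hs; omega) (RB_le_U hu)
    ((show RB F ≤ unitri F (ChevSylow.lev chevG2 wB 2) 0 from ?_) hu)
  rw [RB, Subgroup.closure_le]
  rintro _ ⟨r, hr, t, rfl⟩
  refine xe_mem_unitri (levels.2.2 r hr) ?_ t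
  simp only [List.mem_cons, List.not_mem_nil, or_false] at hr
  rw [G2OddInvol.hn]; omega

end Cfsg.Agent.G2Spectrum
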