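import Cfsg.Agent.Lib.G2OddInvol.Centralizer
import Cfsg.Agent.Lib.LangSteinberg.SylowG2

/-!
# Characters of the root lattice of `G₂` twisted by a Weyl element
-/

set_option autoImplicit false
set_option maxRecDepth 100000

namespace Cfsg.Agent.G2Spectrum

open Cfsg.Lie Cfsg.Agent.G2OddInvol Cfsg.Agent.LangSteinberg

/-- The determinant of two roots in simple coordinates. -/
def rdet (r s : ℕ) : ℤ := cdG2 r 0 * cdG2 s 1 - cdG2 r 1 * cdG2 s 0

theorem simple_coords : cdG2 7 0 = 1 ∧ cdG2 7 1 = 0 ∧ cdG2 6 0 = 0 ∧ cdG2 6 1 = 1 := by decide +kernel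

theorem wn_lt : ∀ l ∈ words, ∀ r < 12, wn l r < 12 := by decide +kernel

theorem matrix_cases : ∀ l ∈ words,
    (cdG2 (wn l 7) 0 = 1 ∧ cdG2 (wn l 7) 1 = 0 ∧ cdG2 (wn l 6) 0 = 0 ∧ cdG2 (wn l 6) 1 = 1) ∨
    (cdG2 (wn l 7) 0 = -1 ∧ cdG2 (wn l 7) 1 = 0 ∧ cdG2 (wn l 6) 0 = 0 ∧ cdG2 (wn l 6) 1 = -1) ∨
    (cdG2 (wn l 7) 0 + cdG2 (wn l 6) 1,
      cdG2 (wn l 7) 0 * cdG2 (wn l 6) 1 - cdG2 (wn l 7) 1 * cdG2 (wn l 6) 0) ∈
      [((0 : ℤ), (-1 : ℤ)), (1, 1), (-1, 1)] := by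
  decide +kernel

theorem exists_partner : ∀ r < 12, ∃ r' < 12, rdet r r' = 1 := by decide +kernel

theorem killed_cases : ∀ l ∈ words, ∀ r < 12, ∀ r' < 12, rdet r r' = 1 →
    (rdet r (wn l r) = 0 ∧ (rdet r (wn l r') = 1 ∨ rdet r (wn l r') = -1)) ∨
      rdet r (wn l r) ∈ [(1 : ℤ), -1, 2, -2, 3, -3] := by
  decide +kernel

theorem fixed_cases : ∀ l ∈ words, (∀ r < 12, wn l r = r) ∨ ∃ i ∈ [(-3 : ℤ), -2, -1, 0, 1, 2, 3],
    ∃ j ∈ [(-3 : ℤ), -2, -1, 0, 1, 2, 3], ∃ r < 12,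
      i * (cdG2 (wn l 7) 0 - 1) + j * cdG2 (wn l 6) 0 = cdG2 r 0 ∧
        i * cdG2 (wn l 7) 1 + j * (cdG2 (wn l 6) 1 - 1) = cdG2 r 1 ∨
      (∃ i' ∈ [(-3 : ℤ), -2, -1, 0, 1, 2, 3], ∃ j' ∈ [(-3 : ℤ), -2, -1, 0, 1, 2, 3],
        ∃ d ∈ [(2 : ℤ), 3],
          i * (cdG2 (wn l 7) 0 - 1) + j * cdG2 (wn l 6) 0 = d ∧
          i * cdG2 (wn l 7) 1 + j * (cdG2 (wn l 6) 1 - 1) = 0 ∧
          i' * (cdG2 (wn l 7) 0 - 1) + j' * cdG2 (wn l 6) 0 = 0 ∧
          i' * cdG2 (wn l 7) 1 + j' * (cdG2 (wn l 6) 1 - 1) = d) := by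
  decide +kernel

theorem simple_stab : ∀ l ∈ words, ∀ r ∈ [(7, 6, [0]), (6, 4, [1])],
    rdet r.1 (wn l r.1) = 0 → rdet r.1 (wn l r.2.1) = 1 →
      (∀ s < 12, wn l s = s) ∨ ∀ s < 12, wn l s = wn r.2.2 s := by
  decide +kernel

theorem simple_killed : ∀ s < 12, ∀ r ∈ [(7, 4), (6, 5)], rdet r.1 s = 0 → s = r.1 ∨ s = r.2 := by
  decide +kernel

theorem simple_partner : rdet 7 6 = 1 ∧ rdet 6 4 = 1 := by decide +kernel

theorem rdet_small : ∀ r < 12, ∀ s < 12, (rdet r s).natAbs ≤ 3 := by decide +kernel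

theorem cd_neg : ∀ r < 12, ∀ i < 2, cdG2 (11 - r) i = -cdG2 r i := by decide +kernel

theorem cd_eight : cdG2 8 0 = 1 ∧ cdG2 8 1 = 1 ∧ cdG2 9 0 = 2 ∧ cdG2 9 1 = 1 := by decide +kernel

/-- The rotation by a third of a turn. -/
def R3 : List ℕ := [0, 1, 0, 1]

theorem rot_facts : (∀ r < 12, wn R3 (wn R3 (wn R3 r)) = r) ∧ wn R3 7 ≠ 7 ∧ wn R3 (wn R3 7) ≠ 7 ∧
    R3 ∈ words ∧ ∀ r < 12, ∀ i < 2, cdG2 r i + cdG2 (wn R3 r) i + cdG2 (wn R3 (wn R3 r)) i = 0 := by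
  decide +kernel

theorem both_pos : ∀ l ∈ words, 6 ≤ wn l 7 → 6 ≤ wn l 6 → ∀ r < 12, wn l r = r := by decide +kernel

theorem coord_small : ∀ s < 12, ∀ i < 2, (cdG2 s i).natAbs ≤ 3 := by decide +kernel

theorem to_simple : ∀ r < 12, ∃ l ∈ words, wn l r = 7 ∨ wn l r = 6 := by decide +kernel

variable {A : Type*} [CommGroup A] (x y : A)

/-- The value of the character with values `x`, `y` on the simple roots. -/
def val (r : ℕ) : A := x ^ cdG2 r 0 * y ^ cdG2 r 1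

theorem val_simple : val x y 7 = x ∧ val x y 6 = y := by
  obtain ⟨a, b, c, d⟩ := simple_coords
  simp [val, a, b, c, d]

/-- The orders of the twisted tori. -/
theorem twist_order {q : ℕ} {l : List ℕ} (hl : l ∈ words) (h : ∀ r < 12, val x y (wn l r) = val x y r ^ q) :
    ∃ N ∈ [((q : ℤ) ^ 2 - 1), (q : ℤ) ^ 2 + q + 1, (q : ℤ) ^ 2 - q + 1], x ^ N = 1 ∧ y ^ N = 1 := by
  have hx := h 7 (by norm_num)
  have hy := h 6 (by norm_num)
  rw [(val_simple x y).1, val] at hx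
  rw [(val_simple x y).2, val] at hy
  rw [← zpow_natCast] at hx hy
  rcases matrix_cases l hl with ⟨a, b, c, d⟩ | ⟨a, b, c, d⟩ | hm
  · rw [a, b, zpow_one, zpow_zero, mul_one] at hx
    rw [c, d, zpow_one, zpow_zero, one_mul] at hy
    refine ⟨_, List.mem_cons_self, ?_, ?_⟩
    · rw [show (q : ℤ) ^ 2 - 1 = ((q : ℤ) + 1) * (q - 1) by ring, zpow_mul', zpow_sub, ← hx, zpow_one,
        mul_inv_cancel, one_zpow]
    · rw [show (q : ℤ) ^ 2 - 1 = ((q : ℤ) + 1) * (q - 1) by ring, zpow_mul', zpow_sub, ← hy, zpow_one,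
        mul_inv_cancel, one_zpow]
  · rw [a, b, zpow_neg_one, zpow_zero, mul_one] at hx
    rw [c, d, zpow_neg_one, zpow_zero, one_mul] at hy
    refine ⟨_, List.mem_cons_self, ?_, ?_⟩
    · rw [show (q : ℤ) ^ 2 - 1 = ((q : ℤ) + 1) * (q - 1) by ring, zpow_mul, zpow_add_one, ← hx,
        inv_mul_cancel, one_zpow]
    · rw [show (q : ℤ) ^ 2 - 1 = ((q : ℤ) + 1) * (q - 1) by ring, zpow_mul, zpow_add_one, ← hy,
        inv_mul_cancel, one_zpow]
  set a := cdG2 (wn l 7) 0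
  set b := cdG2 (wn l 7) 1
  set c := cdG2 (wn l 6) 0
  set d := cdG2 (wn l 6) 1
  have h1 : x ^ ((q : ℤ) - a) = y ^ b := by rw [zpow_sub, ← hx, mul_inv_eq_iff_eq_mul, mul_comm]
  have h2 : y ^ ((q : ℤ) - d) = x ^ c := by rw [zpow_sub, ← hy, mul_inv_cancel_right]
  have key : x ^ (((q : ℤ) - a) * (q - d) - b * c) = 1 ∧ y ^ (((q : ℤ) - a) * (q - d) - b * c) = 1 := by
    constructor
    · rw [zpow_sub, zpow_mul, h1, ← zpow_mul, mul_comm b, zpow_mul, h2, ← zpow_mul, mul_comm c,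
        mul_inv_cancel]
    · rw [zpow_sub, zpow_mul', h2, ← zpow_mul, mul_comm c, zpow_mul, h1, ← zpow_mul, mul_inv_cancel]
  have hP : ((q : ℤ) - a) * (q - d) - b * c = (q : ℤ) ^ 2 - (a + d) * q + (a * d - b * c) := by ring
  rw [hP] at key
  simp only [List.mem_cons, List.not_mem_nil, or_false, Prod.mk.injEq] at hm
  rcases hm with ⟨e1, e2⟩ | ⟨e1, e2⟩ | ⟨e1, e2⟩ <;> rw [e1, e2] at key
  · exact ⟨_, List.mem_cons_self, by convert key.1 using 2; ring, by convert key.2 using 2; ring⟩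
  · exact ⟨_, List.mem_cons_of_mem _ (List.mem_cons_of_mem _ List.mem_cons_self),
      by convert key.1 using 2; ring, by convert key.2 using 2; ring⟩
  · exact ⟨_, List.mem_cons_of_mem _ List.mem_cons_self,
      by convert key.1 using 2; ring, by convert key.2 using 2; ring⟩

/-- The coordinates with respect to a killed root and a partner. -/
theorem val_eq {r r' : ℕ} (hdet : rdet r r' = 1) (hr : val x y r = 1) (s : ℕ) :
    val x y s = val x y r' ^ rdet r s := by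
  have ex : val x y r' ^ (-cdG2 r 1) = x := by
    have := congrArg (· ^ cdG2 r' 1) hr
    simp only [val, one_zpow, mul_zpow, ← zpow_mul] at this ⊢
    calc _ = x ^ (cdG2 r' 0 * -cdG2 r 1) * y ^ (cdG2 r' 1 * -cdG2 r 1) *
          (x ^ (cdG2 r 0 * cdG2 r' 1) * y ^ (cdG2 r 1 * cdG2 r' 1)) := by rw [this, mul_one]
      _ = x ^ (rdet r r') * y ^ (0 : ℤ) := by
        rw [mul_mul_mul_comm, ← zpow_add, ← zpow_add, rdet]
        congr 2 <;> ring
      _ = x := by rw [hdet, zpow_one, zpow_zero, mul_one]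
  have ey : val x y r' ^ cdG2 r 0 = y := by
    have := congrArg (· ^ (-cdG2 r' 0)) hr
    simp only [val, one_zpow, mul_zpow, ← zpow_mul] at this ⊢
    calc _ = x ^ (cdG2 r' 0 * cdG2 r 0) * y ^ (cdG2 r' 1 * cdG2 r 0) *
          (x ^ (cdG2 r 0 * -cdG2 r' 0) * y ^ (cdG2 r 1 * -cdG2 r' 0)) := by rw [this, mul_one]
      _ = x ^ (0 : ℤ) * y ^ (rdet r r') := by
        rw [mul_mul_mul_comm, ← zpow_add, ← zpow_add, rdet]
        congr 2 <;> ring
      _ = y := by rw [hdet, zpow_one, zpow_zero, one_mul]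
  have e : rdet r s = -cdG2 r 1 * cdG2 s 0 + cdG2 r 0 * cdG2 s 1 := by rw [rdet]; ring
  rw [e, zpow_add, zpow_mul, zpow_mul, ex, ey]
  rfl

/-- Orders of non-regular twisted torus elements. -/
theorem twist_order_killed {q : ℕ} {l : List ℕ} (hl : l ∈ words)
    (h : ∀ r < 12, val x y (wn l r) = val x y r ^ q) {r : ℕ} (hr : r < 12) (hkill : val x y r = 1) :
    ∃ N ∈ [(q : ℤ) - 1, (q : ℤ) + 1, 2, 3], x ^ N = 1 ∧ y ^ N = 1 := by
  obtain ⟨r', hr', hdet⟩ := exists_partner r hr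
  set g := val x y r' with hg
  suffices hs : ∃ N ∈ [(q : ℤ) - 1, (q : ℤ) + 1, 2, 3], g ^ N = 1 by
    obtain ⟨N, hN, e⟩ := hs
    refine ⟨N, hN, ?_, ?_⟩
    · rw [← (val_simple x y).1, val_eq x y hdet hkill, ← zpow_mul, mul_comm, zpow_mul, e, one_zpow]
    · rw [← (val_simple x y).2, val_eq x y hdet hkill, ← zpow_mul, mul_comm, zpow_mul, e, one_zpow]
  have h0 : g ^ rdet r (wn l r) = 1 := by rw [← val_eq x y hdet hkill, h r hr, hkill, one_pow]
  have h1 : g ^ rdet r (wn l r') = g ^ (q : ℤ) := by rw [← val_eq x y hdet hkill, h r' hr', zpow_natCast]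
  rcases killed_cases l hl r hr r' hr' hdet with ⟨-, e | e⟩ | hm
  · refine ⟨_, List.mem_cons_self, ?_⟩
    rw [e, zpow_one] at h1
    rw [zpow_sub, ← h1, zpow_one, mul_inv_cancel]
  · refine ⟨_, List.mem_cons_of_mem _ List.mem_cons_self, ?_⟩
    rw [e, zpow_neg_one] at h1
    rw [zpow_add_one, ← h1, inv_mul_cancel]
  · have : g ^ (2 : ℤ) = 1 ∨ g ^ (3 : ℤ) = 1 := by
      simp only [List.mem_cons, List.not_mem_nil, or_false] at hm
      rcases hm with e | e | e | e | e | e <;> rw [e] at h0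
      · exact Or.inl (by rw [zpow_one] at h0; rw [h0, one_zpow])
      · exact Or.inl (by rw [zpow_neg_one, inv_eq_one] at h0; rw [h0, one_zpow])
      · exact Or.inl h0
      · exact Or.inl (by rwa [zpow_neg, inv_eq_one] at h0)
      · exact Or.inr h0
      · exact Or.inr (by rwa [zpow_neg, inv_eq_one] at h0)
    rcases this with e | e
    · exact ⟨2, by simp, e⟩
    · exact ⟨3, by simp, e⟩

/-- A Weyl element fixing a regular character is trivial. -/
theorem fixed_regular {k : Type*} [Field k] (x y : kˣ) {l : List ℕ} (hl : l ∈ words) (h : ∀ r < 12, val x y (wn l r) = val x y r)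
    (hreg : ∀ r < 12, val x y r ≠ 1) : ∀ r < 12, wn l r = r := by
  have hx := h 7 (by norm_num)
  have hy := h 6 (by norm_num)
  rw [(val_simple x y).1, val] at hx
  rw [(val_simple x y).2, val] at hy
  rcases fixed_cases l hl with h1 | ⟨i, -, j, -, r, hr, h2⟩
  · exact h1
  exfalso
  set a := cdG2 (wn l 7) 0
  set b := cdG2 (wn l 7) 1
  set c := cdG2 (wn l 6) 0
  set d := cdG2 (wn l 6) 1
  have hrow : ∀ i j : ℤ, x ^ (i * (a - 1) + j * c) * y ^ (i * b + j * (d - 1)) = 1 := by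
    intro i j
    have ea : x ^ (a - 1) * y ^ b = 1 := by rw [zpow_sub_one, mul_right_comm, hx, mul_inv_cancel]
    have eb : x ^ c * y ^ (d - 1) = 1 := by rw [zpow_sub_one, ← mul_assoc, hy, mul_inv_cancel]
    calc _ = (x ^ (a - 1) * y ^ b) ^ i * (x ^ c * y ^ (d - 1)) ^ j := by
          rw [mul_zpow, mul_zpow, ← zpow_mul, ← zpow_mul, ← zpow_mul, ← zpow_mul, zpow_add, zpow_add,
            mul_comm (a - 1), mul_comm b, mul_comm c, mul_comm (d - 1), mul_mul_mul_comm]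
      _ = 1 := by rw [ea, eb, one_zpow, one_zpow, mul_one]
  rcases h2 with ⟨e1, e2⟩ | ⟨i', -, j', -, m, hm, e1, e2, e3, e4⟩
  · exact hreg r hr (by rw [val, ← e1, ← e2]; exact hrow i j)
  have hX : x ^ m = 1 := by have := hrow i j; rwa [e1, e2, zpow_zero, mul_one] at this
  have hY : y ^ m = 1 := by have := hrow i' j'; rwa [e3, e4, zpow_zero, one_mul] at this
  simp only [List.mem_cons, List.not_mem_nil, or_false] at hm
  have hx1 := hreg 7 (by norm_num)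
  have hy1 := hreg 6 (by norm_num)
  rw [(val_simple x y).1] at hx1
  rw [(val_simple x y).2] at hy1
  rcases hm with rfl | rfl
  · have key : ∀ z : kˣ, z ^ (2 : ℤ) = 1 → z ≠ 1 → z = -1 := fun z hz hz1 => by
      rw [show (2 : ℤ) = ((2 : ℕ) : ℤ) from rfl, zpow_natCast, Units.ext_iff, Units.val_pow_eq_pow_val,
        Units.val_one, sq_eq_one_iff] at hz
      exact Units.ext ((hz.resolve_left fun e => hz1 (Units.ext e)).trans (by simp))
    refine hreg 8 (by norm_num) ?_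
    rw [val, cd_eight.1, cd_eight.2.1, zpow_one, zpow_one, key x hX hx1, key y hY hy1, neg_one_mul, neg_neg]
  · have key : ∀ z : kˣ, z ^ (3 : ℤ) = 1 → z ≠ 1 → (z : k) ^ 2 + z + 1 = 0 := fun z hz hz1 => by
      rw [show (3 : ℤ) = ((3 : ℕ) : ℤ) from rfl, zpow_natCast, Units.ext_iff, Units.val_pow_eq_pow_val,
        Units.val_one] at hz
      have h1 : (z : k) - 1 ≠ 0 := sub_ne_zero.2 fun e => hz1 (Units.ext e)
      exact (mul_eq_zero.1 (show ((z : k) - 1) * ((z : k) ^ 2 + z + 1) = 0 by linear_combination hz)).resolve_left h1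
    have ex := key x hX hx1
    have ey := key y hY hy1
    have hpr : ((y : k) - x) * (y - (x : k) ^ 2) = 0 := by linear_combination ey + ((x : k) - y - 1) * ex
    rcases mul_eq_zero.1 hpr with e | e
    · refine hreg 9 (by norm_num) ?_
      rw [val, cd_eight.2.2.1, cd_eight.2.2.2, zpow_one, show y = x from Units.ext (sub_eq_zero.1 e),
        show (2 : ℤ) = ((2 : ℕ) : ℤ) from rfl, zpow_natCast, ← pow_succ]
      exact hX
    · refine hreg 8 (by norm_num) ?_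
      rw [val, cd_eight.1, cd_eight.2.1, zpow_one, zpow_one, show y = x ^ 2 from Units.ext (by simpa using sub_eq_zero.1 e),
        ← pow_succ']
      exact hX

end Cfsg.Agent.G2Spectrum
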