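import Cfsg.Agent.Lib.G2Spectrum.Bound
import Cfsg.Agent.Lib.G2Spectrum.Tables
import Cfsg.Agent.Lib.LangSteinberg.SylowTori
import Cfsg.Agent.Lib.PSL2.Torus

/-!
# Elements of `G₂(q)` of the orders `q² - 1`, `q² ± q + 1`, `p (q ± 1)`, `p²` (`p = 3, 5`), 8 and 12
-/

set_option autoImplicit false

namespace Cfsg.Agent.G2Spectrum

open Cfsg.Lie Cfsg.Agent.Chev Cfsg.Agent.Chev.BNSetup Cfsg.Agent.G2OddInvol Cfsg.Agent.LangSteinberg
open scoped MatrixGroups

/-- The certificate of `X² - 1`. -/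
def certSq : Cyclo.Cert where
  d := 2
  G := [-1, 0]
  H := [1]
  M := [1]
  ps := []

/-- The torus of order `q² - 1`. -/
def torSq : DTorus where
  word := [1]
  img := [8, 5]
  J := [0]
  cyc := certSq
  P := [[[1, 0], [-1, 1]]]

theorem torSq_checked : torSq.Checked chevG2 cdG2 where
  word_lt := by decide +kernel
  cyc_valid := by decide +kernel
  deg_pos := by decide +kernel
  J_lt := by decide +kernel
  dual := by decide +kernel
  img_eq := by decide +kernel
  shift := by decide +kernel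

variable {F : Type*} [Field F] [Fintype F]

theorem exists_order_torus {T : DTorus} (hT : T.Checked chevG2 cdG2) (hJ : T.J.length = 1) {m : ℕ}
    (hm : (m : F) ≠ 0) (hGq : (m : ℤ) ∣ Cyclo.peval (T.cyc.G ++ [1]) (Fintype.card F : ℤ)) :
    ∃ g : chevG2.group F, orderOf g = m := by
  have : NeZero m := ⟨fun h => hm (by rw [h, Nat.cast_zero])⟩
  obtain ⟨f, hf'⟩ := exists_homocyclic hgood hf coordsG2 1 one_pos denG2
    (fun i hi j hj => by have := denG2_right i hi j hj; rwa [TorusData.list_range_sum_eq] at this)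
    (fun j hj i hi => by have := denG2_left j hj i hi; rwa [TorusData.list_range_sum_eq] at this)
    hT rfl hm (Nat.coprime_one_left m) hGq
  have : Nonempty (Fin T.J.length) := ⟨⟨0, by omega⟩⟩
  refine ⟨(f.comp (Pi.constMonoidHom (Fin T.J.length) (Multiplicative (ZMod m)))) (Multiplicative.ofAdd 1), ?_⟩
  have hinj : Function.Injective (Pi.constMonoidHom (Fin T.J.length) (Multiplicative (ZMod m))) := fun a b h =>
    congr_fun h (Classical.arbitrary _)
  rw [MonoidHom.comp_apply, orderOf_injective f hf', orderOf_injective _ hinj, orderOf_ofAdd_eq_addOrderOf,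
    ZMod.addOrderOf_one]

theorem exists_order_sq_sub_one : ∃ g : chevG2.group F, orderOf g = Fintype.card F ^ 2 - 1 := by
  have h1 : 1 ≤ Fintype.card F ^ 2 := Nat.one_le_pow _ _ Fintype.card_pos
  refine exists_order_torus torSq_checked rfl ?_ ?_
  · rw [Nat.cast_sub h1, Nat.cast_pow, FiniteField.cast_card_eq_zero F]; simp
  · refine dvd_of_eq ?_
    rw [Nat.cast_sub h1]; simp [torSq, certSq, Cyclo.peval]; ring

theorem exists_order_plus : ∃ g : chevG2.group F, orderOf g = Fintype.card F ^ 2 + Fintype.card F + 1 := by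
  refine exists_order_torus torG2d3_checked rfl ?_ ?_
  · push_cast; rw [FiniteField.cast_card_eq_zero F]; simp
  · refine dvd_of_eq ?_
    simp [torG2d3, Cyclo.cert3, Cyclo.peval]; ring

theorem exists_order_minus : ∃ g : chevG2.group F, orderOf g = Fintype.card F ^ 2 - Fintype.card F + 1 := by
  have h1 : Fintype.card F ≤ Fintype.card F ^ 2 := Nat.le_self_pow two_ne_zero _
  refine exists_order_torus torG2d6_checked rfl ?_ ?_
  · rw [Nat.cast_add, Nat.cast_sub h1, Nat.cast_pow, FiniteField.cast_card_eq_zero F]; simp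
  · refine dvd_of_eq ?_
    rw [Nat.cast_add, Nat.cast_sub h1]; simp [torG2d6, Cyclo.cert6, Cyclo.peval]; ring

variable (p : ℕ) [Fact p.Prime] [CharP F p]
include p

omit [Fintype F] in
theorem exists_order_mul {c : SL(2, F)} {m : ℕ} (hc : orderOf c = m) (hm : (m : F) ≠ 0) :
    ∃ g : chevG2.group F, orderOf g = p * m := by
  set x := xg chevG2 F 10 (1 : F)
  have hxo : orderOf x = p := by
    refine orderOf_eq_prime ?_ (xg_ne_one h10 one_ne_zero)
    rw [xg_pow h10, CharP.cast_eq_zero, zero_mul, hgood.xg_zero]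
  have hyo : orderOf (phi F h8 c) = m := by rw [orderOf_injective _ phi8_inj, hc]
  have hcomm : Commute x (phi F h8 c) := by
    show xg chevG2 F 10 (1 : F) * phi F h8 c = phi F h8 c * xg chevG2 F 10 (1 : F)
    rw [← (phi_spec (F := F) h10).1 (1 : F)]
    exact (L_commute c _).symm
  refine ⟨⟨x * phi F h8 c, mul_mem (hgood.xg_mem_group _ _) ((phi_spec h8).2.2.2 c)⟩, ?_⟩
  rw [Subgroup.orderOf_mk, hcomm.orderOf_mul_eq_mul_orderOf_of_coprime, hxo, hyo]
  rw [hxo, hyo]
  exact ((Fact.out : p.Prime).coprime_iff_not_dvd).2 fun h => hm ((CharP.cast_eq_zero_iff F p m).2 h)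

theorem exists_order_mul_sub_one (h4 : 4 ≤ Fintype.card F) :
    ∃ g : chevG2.group F, orderOf g = p * (Fintype.card F - 1) := by
  obtain ⟨g, hg, hc⟩ := PSL2.exists_torus_card_sub_one h4
  have := PSL2.isCyclic_cent hg
  obtain ⟨c, hc'⟩ := IsCyclic.exists_ofOrder_eq_natCard (α := PSL2.cent g)
  refine exists_order_mul p (c := c.1) (by rw [Subgroup.orderOf_coe, hc', hc]) ?_
  rw [Nat.cast_sub (by omega), FiniteField.cast_card_eq_zero F]; simp

theorem exists_order_mul_add_one : ∃ g : chevG2.group F, orderOf g = p * (Fintype.card F + 1) := by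
  obtain ⟨g, hg, hc⟩ := PSL2.exists_torus_card_add_one F
  have := PSL2.isCyclic_cent hg
  obtain ⟨c, hc'⟩ := IsCyclic.exists_ofOrder_eq_natCard (α := PSL2.cent g)
  refine exists_order_mul p (c := c.1) (by rw [Subgroup.orderOf_coe, hc', hc]) ?_
  push_cast; rw [FiniteField.cast_card_eq_zero F]; simp

omit p [Fact p.Prime] [CharP F p] [Fintype F] in
theorem exists_wordOne {p : ℕ} [Fact p.Prime] (f : ZMod p →+* F) : ∀ w : List ℕ, (∀ r ∈ w, r < 12) →
    ∃ g : GL chevG2.Idx (ZMod p), g ∈ chevG2.group (ZMod p) ∧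
      (g : Matrix chevG2.Idx chevG2.Idx (ZMod p)) = wordOne p w ∧ entryMap chevG2 f g ∈ chevG2.group F ∧
      ((∀ r ∈ w, 6 ≤ r) → entryMap chevG2 f g ∈ chevG2.posUnipotent F)
  | [], _ => ⟨1, one_mem _, by simp [wordOne], by rw [map_one]; exact one_mem _,
      fun _ => by rw [map_one]; exact one_mem _⟩
  | r :: w, h => by
    obtain ⟨g, hg, hge, hgm, hgu⟩ := exists_wordOne f w fun q hq => h q (List.mem_cons_of_mem _ hq)
    have hr := h r List.mem_cons_self
    refine ⟨xe hgood r 1 * g, mul_mem (xe_mem_group hgood (lt12 hr) 1) hg, ?_, ?_, fun h6 => ?_⟩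
    · rw [Units.val_mul, hge, coe_xe]; simp [wordOne]
    · rw [map_mul]; exact mul_mem (entryMap_mem_group hgood f (xe_mem_group hgood (lt12 hr) 1)) hgm
    · rw [map_mul, entryMap_xe, map_one, xe_eq]
      exact mul_mem (xg_mem_U hr (h6 r List.mem_cons_self) _) (hgu fun q hq => h6 q (List.mem_cons_of_mem _ hq))

omit [Fintype F] in
theorem exists_order_sq (hp : p = 3 ∨ p = 5) : ∃ g : chevG2.group F, orderOf g = p ^ 2 := by
  obtain ⟨g, -, hge, hgm, hgu⟩ := exists_wordOne (ZMod.castHom (dvd_refl p) F) [7, 6] (by simp)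
  refine ⟨⟨_, hgm⟩, ?_⟩
  rw [Subgroup.orderOf_mk]
  refine orderOf_eq_prime_pow (n := 1) ?_ (pow_U p (j := 2) (by rcases hp with rfl | rfl <;> norm_num) (hgu (by simp)))
  rw [← map_pow, ← map_one (entryMap chevG2 (ZMod.castHom (dvd_refl p) F)), (entryMap_injective _).eq_iff,
    Units.ext_iff, Units.val_pow_eq_pow_val, hge, Units.val_one, pow_one]
  rcases hp with rfl | rfl
  · obtain ⟨e, e2, e3, e4⟩ := check_three
    rwa [e, pow_succ, pow_succ, pow_one, e2, e3]
  · obtain ⟨e, e2, e4, e5, e6⟩ := check_five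
    rwa [e, pow_succ, show tab 5 u5_1 ^ 4 = tab 5 u5_4 by rw [← e4, ← e2]; simp [pow_succ, mul_assoc], e5]

omit p [Fact p.Prime] [CharP F p] [Fintype F] in
theorem exists_order_eight [CharP F 2] : ∃ g : chevG2.group F, orderOf g = 8 := by
  obtain ⟨g, -, hge, hgm, hgu⟩ := exists_wordOne (p := 2) (ZMod.castHom (dvd_refl 2) F) [7, 6] (by simp)
  refine ⟨⟨_, hgm⟩, ?_⟩
  rw [Subgroup.orderOf_mk, show (8 : ℕ) = 2 ^ (2 + 1) from rfl]
  refine orderOf_eq_prime_pow ?_ (pow_U 2 (j := 3) (by norm_num) (hgu (by simp)))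
  rw [← map_pow, ← map_one (entryMap chevG2 (ZMod.castHom (dvd_refl 2) F)), (entryMap_injective _).eq_iff,
    Units.ext_iff, Units.val_pow_eq_pow_val, hge, Units.val_one]
  obtain ⟨e, e2, e4, e5⟩ := check_two
  rwa [e, show (2 : ℕ) ^ 2 = 2 * 2 from rfl, pow_mul, pow_two, pow_two, e2, e4]

omit p [Fact p.Prime] [CharP F p] [Fintype F] in
theorem exists_order_twelve [CharP F 2] : ∃ g : chevG2.group F, orderOf g = 12 := by
  obtain ⟨g, -, hge, hgm, -⟩ := exists_wordOne (p := 2) (ZMod.castHom (dvd_refl 2) F) [0, 2, 9] (by simp)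
  refine ⟨⟨_, hgm⟩, ?_⟩
  rw [Subgroup.orderOf_mk, orderOf_injective _ (entryMap_injective _), ← orderOf_units, hge]
  obtain ⟨e, e2, e3, e4, e6, e12, e1, n4, n6⟩ := check_twelve
  rw [e]
  set M := tab 2 g12_1
  have p2 : M ^ 2 = tab 2 g12_2 := by rw [pow_two, e2]
  have p3 : M ^ 3 = tab 2 g12_3 := by rw [pow_succ, p2, e3]
  have p4 : M ^ 4 = tab 2 g12_4 := by rw [show (4 : ℕ) = 2 + 2 from rfl, pow_add, p2, e4]
  have p6 : M ^ 6 = tab 2 g12_6 := by rw [show (6 : ℕ) = 3 + 3 from rfl, pow_add, p3, e6]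
  have p12 : M ^ 12 = 1 := by rw [show (12 : ℕ) = 6 + 6 from rfl, pow_add, p6, e12, e1]
  have hd := orderOf_dvd_of_pow_eq_one p12
  have h4 : ¬ orderOf M ∣ 4 := fun h => n4 (p4 ▸ orderOf_dvd_iff_pow_eq_one.1 h)
  have h6 : ¬ orderOf M ∣ 6 := fun h => n6 (p6 ▸ orderOf_dvd_iff_pow_eq_one.1 h)
  have key : ∀ d ∈ Nat.divisors 12, ¬ d ∣ 4 → ¬ d ∣ 6 → d = 12 := by decide
  exact key _ (Nat.mem_divisors.2 ⟨hd, by norm_num⟩) h4 h6

end Cfsg.Agent.G2Spectrum
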