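import Mathlib

/-! Powers of a few elements of `G₂(p)`, three bits for each entry. -/

namespace Cfsg.Agent.G2Spectrum

/-- Table. -/
def u2_1 : ℕ := 0x240000000001249200001008048000040049200001000209200200001200001000008249000000048000000000209000000001240000000009000000000040000008000200000048001

/-- Table. -/
def u2_2 : ℕ := 0x209248000041008009249008009049040040009249000208040000001041240000008001000000040240000000201000000001040000000008000000000040000000249200000008241

/-- Table. -/
def u2_4 : ℕ := 0x200000001201000200000008000200000040001000000200000000001000200000008000000000040000000000200000000001000000000008000000000040000000000200000000041

/-- Table. -/
def u3_1 : ℕ := 0x24000000000100140000800925000020004a20001000020a20024000140000800000801100000005000000000029100000000144000000000a000000000040000008000200000050001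

/-- Table. -/
def u3_2 : ℕ := 0x28005000020100220028000a04220a04005108844900020248a480001400290000008008000000049280000000252000000001200000000009000000000040000010011200000081281

/-- Table. -/
def u3_3 : ℕ := 0x20000000a201000200080008000282040040042200000200402000001000400000008000000000040400000000202000000001000000000008000000000040000000001200000001081

/-- Table. -/
def u5_1 : ℕ := 0x24000000000169180001b00b6600006c004c20001200020c2002c000180001b0000086e10000000600000000002a100000000184000000000c000000000040000008000200000060001

/-- Table. -/
def u5_2 : ℕ := 0x29a4600006c12c324a32300990848c70005325385400021961a4400012e230900000829400000005b3000000003080000000016c000000000b0000000000400000106e1200000093301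

/-- Table. -/
def u5_4 : ℕ := 0x31b05831940148442140000a04045800006104360b0002040008800018da4d20000084c800000004b8000000002e00000000012000000000090000000000400000206a12000001000c1

/-- Table. -/
def u5_5 : ℕ := 0x2000000014010004000000080004000000400030000002000000000010006000000080000000000400000000002000000000010000000000080000000000400000000012000000000c1

/-- Table. -/
def g12_1 : ℕ := 0x201001008001008008040008000040048000040000040000200000001000000040208201008040000000048200040048200040000200040000009240040209008000000248040040201

/-- Table. -/
def g12_2 : ℕ := 0x40008008040041248001000048000000040200008000241040001000000241209248200040000200001200049000200041201201041008009049049049201001048248041040001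

/-- Table. -/
def g12_3 : ℕ := 0x200000000001241000000208040000000041000000200201000200001000000208249248200001040000001041208240001001200000000008000001041240001040000200041040001

/-- Table. -/
def g12_4 : ℕ := 0x201001008009209049041209041048048001040000048001208240001000000040008009248041000000040200048240200040000200040000001000000209208041000248001000201

/-- Table. -/
def g12_6 : ℕ := 0x200000000009000000000008000000000040000000001200000000001000000000048000040000040000000001200000000001000000000008000000000240000040000200000000001

/-- Table. -/
def g12_12 : ℕ := 0x200000000001000000000008000000000040000000000200000000001000000000008000000000040000000000200000000001000000000008000000000040000000000200000000001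

end Cfsg.Agent.G2Spectrum
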